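import Groth.Agent.RGLib.Kummer
import Groth.Agent.RelKummer.Good

/-!
# Kummer covers of coordinate charts
-/

set_option autoImplicit false
set_option linter.style.haveILetI false
set_option backward.isDefEq.respectTransparency false
set_option maxHeartbeats 4000000

universe u

open TensorProduct IsLocalRing

noncomputable section

namespace Groth.Agent.RelChart

open Groth.Agent.RGLib

/-- The lifting property of a formally étale algebra, with ring maps. -/
theorem existsUnique_lift {P G Q : Type u} [CommRing P] [CommRing G] [CommRing Q] [Algebra P G]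
    [Algebra.FormallyEtale P G] (I : Ideal Q) (hI : I ^ 2 = ⊥) (χ : P →+* Q) (h : G →+* Q ⧸ I)
    (hh : ∀ p, h (algebraMap P G p) = Ideal.Quotient.mk I (χ p)) :
    ∃! g : G →+* Q, (∀ p, g (algebraMap P G p) = χ p) ∧ ∀ x, Ideal.Quotient.mk I (g x) = h x := by
  letI := χ.toAlgebra
  obtain ⟨hinj, hsurj⟩ := Algebra.FormallyEtale.iff_comp_bijective.1 (inferInstance : Algebra.FormallyEtale P G) I hI
  obtain ⟨g, hg⟩ := hsurj ({ h with commutes' := hh } : G →ₐ[P] Q ⧸ I)
  refine ⟨g.toRingHom, ⟨g.commutes, fun x => DFunLike.congr_fun hg x⟩, fun g' hg' => ?_⟩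
  have he : ({ g' with commutes' := hg'.1 } : G →ₐ[P] Q) = g :=
    hinj ((AlgHom.ext fun x => hg'.2 x : _ = ({ h with commutes' := hh } : G →ₐ[P] Q ⧸ I)).trans hg.symm)
  exact congrArg AlgHom.toRingHom he

variable {C G : Type u} [CommRing C] [CommRing G] {σ : Type u} [Finite σ] [Algebra C G]
  [Algebra (MvPolynomial σ C) G] [IsScalarTower C (MvPolynomial σ C) G] [Algebra.Etale (MvPolynomial σ C) G]

section kummer

variable {ι : Type} [Finite ι] (e : ι → σ) (n : ι → ℕ)

/-- The divisor functions of a chart. -/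
abbrev aOf : ι → G := fun i => algebraMap (MvPolynomial σ C) G (MvPolynomial.X (e i))

theorem kummer_ringHom_ext {Q : Type u} [CommRing Q] {a : ι → G} {g g' : Kummer.K G a n →+* Q}
    (h : ∀ x, g (algebraMap G _ x) = g' (algebraMap G _ x)) (hT : ∀ i, g (Kummer.T a n i) = g' (Kummer.T a n i)) :
    g = g' :=
  Ideal.Quotient.ringHom_ext (MvPolynomial.ringHom_ext h hT)

omit [Finite ι] in
/-- An algebra with the universal property of a Kummer cover of a chart is smooth. -/
theorem smooth_of_universal (he : Function.Injective e) (K : Type u) [CommRing K] [Algebra C K] [Algebra G K]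
    [IsScalarTower C G K] [Algebra.FinitePresentation G K] (T : ι → K)
    (hT : ∀ i, T i ^ n i = algebraMap G K (aOf (C := C) e i))
    (hext : ∀ {Q : Type u} [CommRing Q] (g g' : K →+* Q),
      (∀ x, g (algebraMap G _ x) = g' (algebraMap G _ x)) → (∀ i, g (T i) = g' (T i)) → g = g')
    (huniv : ∀ (Q : Type u) [CommRing Q] [Algebra G Q] (t : ι → Q),
      (∀ i, t i ^ n i = algebraMap G Q (aOf (C := C) e i)) → ∃ F : K →ₐ[G] Q, ∀ i, F (T i) = t i) :
    Algebra.Smooth C K := by
  classical
  let x : σ → G := fun j => algebraMap (MvPolynomial σ C) G (MvPolynomial.X j)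
  let t : σ → K := Function.extend e (T) fun j => algebraMap G K (x j)
  let m : σ → ℕ := Function.extend e n fun _ => 1
  let ψ : MvPolynomial σ C →+* K := (MvPolynomial.aeval t).toRingHom
  let pw : MvPolynomial σ C →+* MvPolynomial σ C := (MvPolynomial.aeval fun j => MvPolynomial.X j ^ m j).toRingHom
  have ht : ∀ i, t (e i) = T i := fun i => he.extend_apply _ _ i
  have hm : ∀ i, m (e i) = n i := fun i => he.extend_apply _ _ i
  have htj : ∀ j, (¬∃ i, e i = j) → t j = algebraMap G K (x j) := fun j hj => Function.extend_apply' _ _ _ hj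
  have hmj : ∀ j, (¬∃ i, e i = j) → m j = 1 := fun j hj => Function.extend_apply' _ _ _ hj
  have hψpw : ∀ p, ψ (pw p) = algebraMap G K (algebraMap (MvPolynomial σ C) G p) := by
    refine RingHom.congr_fun (f := ψ.comp pw) (g := (algebraMap G K).comp (algebraMap (MvPolynomial σ C) G)) ?_
    refine MvPolynomial.ringHom_ext (fun c => ?_) fun j => ?_
    · simp only [ψ, pw, RingHom.comp_apply, AlgHom.toRingHom_eq_coe, RingHom.coe_coe, MvPolynomial.aeval_C,
        ← MvPolynomial.algebraMap_eq, AlgHom.commutes, ← IsScalarTower.algebraMap_apply]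
    · simp only [ψ, pw, RingHom.comp_apply, AlgHom.toRingHom_eq_coe, RingHom.coe_coe, MvPolynomial.aeval_X, map_pow]
      by_cases hj : ∃ i, e i = j
      · obtain ⟨i, rfl⟩ := hj
        rw [ht, hm, hT]
      · rw [htj j hj, hmj j hj, pow_one]
  letI : Algebra (MvPolynomial σ C) K := ψ.toAlgebra
  haveI : IsScalarTower C (MvPolynomial σ C) K := IsScalarTower.of_algebraMap_eq fun c =>
    ((MvPolynomial.aeval (R := C) t).commutes c).symm
  haveI : Algebra.FormallyEtale (MvPolynomial σ C) K := by
    rw [Algebra.FormallyEtale.iff_comp_bijective]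
    intro Q _ _ I hI
    let χ : MvPolynomial σ C →+* Q := (algebraMap (MvPolynomial σ C) Q).comp pw
    have hcomp : ∀ (g : K →ₐ[MvPolynomial σ C] Q) (p : MvPolynomial σ C),
        g (algebraMap G K (algebraMap (MvPolynomial σ C) G p)) = χ p := fun g p => by
      rw [← hψpw]; exact g.commutes _
    refine ⟨fun g g' hgg => ?_, fun h => ?_⟩
    · refine AlgHom.coe_ringHom_injective (hext _ _ (fun z => ?_) fun i => ?_)
      · refine RingHom.congr_fun (f := g.toRingHom.comp (algebraMap G K)) (g := g'.toRingHom.comp (algebraMap G K))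
          ((existsUnique_lift I hI χ ((Ideal.Quotient.mk I).comp (g.toRingHom.comp (algebraMap G K)))
            fun p => congrArg _ (hcomp g p)).unique ⟨hcomp g, fun _ => rfl⟩
            ⟨hcomp g', fun z => (DFunLike.congr_fun hgg (algebraMap G K z)).symm⟩) z
      · rw [← ht i]
        show g (t (e i)) = g' (t (e i))
        rw [show t (e i) = algebraMap (MvPolynomial σ C) K (MvPolynomial.X (e i)) from
          (MvPolynomial.aeval_X _ _).symm, AlgHom.commutes, AlgHom.commutes]
    · obtain ⟨g, ⟨hg, hgh⟩, -⟩ := existsUnique_lift I hI χ (h.toRingHom.comp (algebraMap G K)) fun p => by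
        show h (algebraMap G K _) = _
        rw [← hψpw]
        exact h.commutes _
      letI := g.toAlgebra
      obtain ⟨F, hF⟩ := (huniv Q
        (fun i => algebraMap (MvPolynomial σ C) Q (MvPolynomial.X (e i))) fun i => by
          show _ = g (algebraMap (MvPolynomial σ C) G (MvPolynomial.X (e i)))
          rw [hg]
          simp only [χ, pw, RingHom.comp_apply, AlgHom.toRingHom_eq_coe, RingHom.coe_coe, MvPolynomial.aeval_X,
            map_pow, hm])
      have hFG : ∀ z, F (algebraMap G K z) = g z := F.commutes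
      have hFP : ∀ p, F (ψ p) = algebraMap (MvPolynomial σ C) Q p := by
        refine RingHom.congr_fun (f := F.toRingHom.comp ψ) ?_
        refine MvPolynomial.ringHom_ext (fun c => ?_) fun j => ?_
        · show F (MvPolynomial.aeval t (MvPolynomial.C c)) = _
          rw [MvPolynomial.aeval_C, IsScalarTower.algebraMap_apply C G K, hFG,
            IsScalarTower.algebraMap_apply C (MvPolynomial σ C) G, hg]
          simp only [χ, pw, RingHom.comp_apply, AlgHom.toRingHom_eq_coe, RingHom.coe_coe,
            MvPolynomial.algebraMap_eq, MvPolynomial.aeval_C]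
        · show F (MvPolynomial.aeval t (MvPolynomial.X j)) = _
          rw [MvPolynomial.aeval_X]
          by_cases hj : ∃ i, e i = j
          · obtain ⟨i, rfl⟩ := hj
            rw [ht, hF]
          · rw [htj j hj, hFG, hg]
            simp only [χ, pw, RingHom.comp_apply, AlgHom.toRingHom_eq_coe, RingHom.coe_coe, MvPolynomial.aeval_X,
              hmj j hj, pow_one]
      refine ⟨{ F.toRingHom with commutes' := hFP }, AlgHom.coe_ringHom_injective (hext _ _ ?_ ?_)⟩
      · intro z
        show Ideal.Quotient.mk I (F (algebraMap G K z)) = h (algebraMap G K z)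
        rw [hFG]
        exact hgh z
      · intro i
        show Ideal.Quotient.mk I (F (T i)) = h (T i)
        rw [hF, ← ht i, show t (e i) = algebraMap (MvPolynomial σ C) K (MvPolynomial.X (e i)) from
          (MvPolynomial.aeval_X _ _).symm, AlgHom.commutes]
        rfl
  haveI : Algebra.FormallySmooth C K := Algebra.FormallySmooth.comp C (MvPolynomial σ C) K
  haveI : Algebra.FinitePresentation C G := Algebra.FinitePresentation.trans C (MvPolynomial σ C) G
  haveI : Algebra.FinitePresentation C K := Algebra.FinitePresentation.trans C G K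
  exact ⟨inferInstance, inferInstance⟩

/-- The Kummer cover of a chart is smooth. -/
theorem smooth_kummer (he : Function.Injective e) :
    ((algebraMap G (Kummer.K G (aOf (C := C) e) n)).comp (algebraMap C G)).Smooth := by
  have key : ∀ (K : Type u) [CommRing K] [Algebra G K] (T : ι → K) [Algebra.FinitePresentation G K],
      (∀ i, T i ^ n i = algebraMap G K (aOf (C := C) e i)) →
      (∀ {Q : Type u} [CommRing Q] (g g' : K →+* Q),
        (∀ x, g (algebraMap G _ x) = g' (algebraMap G _ x)) → (∀ i, g (T i) = g' (T i)) → g = g') →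
      (∀ (Q : Type u) [CommRing Q] [Algebra G Q] (t : ι → Q),
        (∀ i, t i ^ n i = algebraMap G Q (aOf (C := C) e i)) → ∃ F : K →ₐ[G] Q, ∀ i, F (T i) = t i) →
      ((algebraMap G K).comp (algebraMap C G)).Smooth := by
    intro K _ _ T _ h1 h2 h3
    letI : Algebra C K := ((algebraMap G K).comp (algebraMap C G)).toAlgebra
    haveI : IsScalarTower C G K := IsScalarTower.of_algebraMap_eq fun _ => rfl
    exact smooth_of_universal e n he K T h1 h2 h3
  haveI : Algebra.FinitePresentation G (Kummer.K G (aOf (C := C) e) n) :=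
    Algebra.FinitePresentation.quotient (Submodule.fg_span (Set.finite_range _))
  exact key _ (Kummer.T _ n) (fun i => Kummer.T_pow _ n i) (fun g g' h h' => kummer_ringHom_ext n h h')
    fun Q _ _ t ht => (Kummer.existsUnique_hom _ n t ht).exists

end kummer

section baseChange

variable (Ω : Type u) [CommRing Ω] [Algebra C Ω]

/-- The coordinates of a base change of a chart. -/
def coordBC : MvPolynomial σ Ω →ₐ[Ω] Ω ⊗[C] G :=
  MvPolynomial.aeval fun j => (1 : Ω) ⊗ₜ[C] algebraMap (MvPolynomial σ C) G (MvPolynomial.X j)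

theorem coordBC_map (p : MvPolynomial σ C) :
    coordBC (G := G) Ω (MvPolynomial.map (algebraMap C Ω) p) = (1 : Ω) ⊗ₜ[C] algebraMap (MvPolynomial σ C) G p := by
  refine RingHom.congr_fun (f := (coordBC (G := G) (σ := σ) Ω).toRingHom.comp (MvPolynomial.map (algebraMap C Ω)))
    (g := (Algebra.TensorProduct.includeRight (R := C) (A := Ω) (B := G)).toRingHom.comp
      (algebraMap (MvPolynomial σ C) G)) ?_ p
  refine MvPolynomial.ringHom_ext (fun c => ?_) fun j => ?_
  · simp only [coordBC, RingHom.comp_apply, AlgHom.toRingHom_eq_coe, RingHom.coe_coe, MvPolynomial.map_C,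
      MvPolynomial.aeval_C, Algebra.TensorProduct.algebraMap_apply, Algebra.algebraMap_self, RingHom.id_apply]
    rw [Algebra.TensorProduct.includeRight_apply, ← MvPolynomial.algebraMap_eq, ← IsScalarTower.algebraMap_apply,
      Algebra.algebraMap_eq_smul_one, Algebra.algebraMap_eq_smul_one, TensorProduct.smul_tmul]
  · simp only [coordBC, RingHom.comp_apply, AlgHom.toRingHom_eq_coe, RingHom.coe_coe, MvPolynomial.map_X,
      MvPolynomial.aeval_X, Algebra.TensorProduct.includeRight_apply]

/-- A base change of a chart is a chart. -/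
theorem etale_coordBC : (coordBC (C := C) (G := G) (σ := σ) Ω).toRingHom.Etale := by
  letI := (coordBC (C := C) (G := G) (σ := σ) Ω).toRingHom.toAlgebra
  haveI : IsScalarTower Ω (MvPolynomial σ Ω) (Ω ⊗[C] G) := IsScalarTower.of_algebraMap_eq fun o =>
    ((coordBC (C := C) (G := G) (σ := σ) Ω).commutes o).symm
  show Algebra.Etale (MvPolynomial σ Ω) (Ω ⊗[C] G)
  haveI : Algebra.FinitePresentation C G := Algebra.FinitePresentation.trans C (MvPolynomial σ C) G
  haveI : Algebra.FinitePresentation (MvPolynomial σ Ω) (Ω ⊗[C] G) :=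
    Algebra.FinitePresentation.of_restrict_scalars_finitePresentation Ω (MvPolynomial σ Ω) (Ω ⊗[C] G)
  suffices Algebra.FormallyEtale (MvPolynomial σ Ω) (Ω ⊗[C] G) from ⟨this, inferInstance⟩
  rw [Algebra.FormallyEtale.iff_comp_bijective]
  intro Q _ _ I hI
  let χ : MvPolynomial σ C →+* Q := (algebraMap (MvPolynomial σ Ω) Q).comp (MvPolynomial.map (algebraMap C Ω))
  let ι₂ : G →+* Ω ⊗[C] G := (Algebra.TensorProduct.includeRight (R := C) (A := Ω) (B := G)).toRingHom
  have hcomp : ∀ (g : Ω ⊗[C] G →ₐ[MvPolynomial σ Ω] Q) (p : MvPolynomial σ C),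
      g (ι₂ (algebraMap (MvPolynomial σ C) G p)) = χ p := fun g p => by
    show g ((1 : Ω) ⊗ₜ[C] _) = _
    rw [← coordBC_map]
    exact g.commutes _
  have hext : ∀ {R : Type u} [CommRing R] (g g' : Ω ⊗[C] G →+* R),
      (∀ o, g (algebraMap Ω _ o) = g' (algebraMap Ω _ o)) → (∀ z, g (ι₂ z) = g' (ι₂ z)) → g = g' := by
    intro R _ g g' ho hz
    refine RingHom.ext fun z => ?_
    induction z using TensorProduct.induction_on with
    | zero => rw [map_zero, map_zero]
    | tmul o z =>
      have hoz : o ⊗ₜ[C] z = algebraMap Ω (Ω ⊗[C] G) o * ι₂ z := by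
        show _ = _ * ((1 : Ω) ⊗ₜ[C] z)
        rw [Algebra.TensorProduct.algebraMap_apply, Algebra.TensorProduct.tmul_mul_tmul, one_mul, mul_one]
        rfl
      rw [hoz, map_mul, map_mul, ho, hz]
    | add x y hx hy => rw [map_add, map_add, hx, hy]
  refine ⟨fun g g' hgg => ?_, fun h => ?_⟩
  · refine AlgHom.coe_ringHom_injective (hext _ _ (fun o => ?_) fun z => ?_)
    · show g (algebraMap Ω _ o) = g' (algebraMap Ω _ o)
      rw [IsScalarTower.algebraMap_apply Ω (MvPolynomial σ Ω) (Ω ⊗[C] G), AlgHom.commutes, AlgHom.commutes]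
    · exact RingHom.congr_fun (f := g.toRingHom.comp ι₂) (g := g'.toRingHom.comp ι₂)
        ((existsUnique_lift I hI χ ((Ideal.Quotient.mk I).comp (g.toRingHom.comp ι₂))
          fun p => congrArg _ (hcomp g p)).unique ⟨hcomp g, fun _ => rfl⟩
          ⟨hcomp g', fun w => (DFunLike.congr_fun hgg (ι₂ w)).symm⟩) z
  · obtain ⟨g, ⟨hg, hgh⟩, -⟩ := existsUnique_lift I hI χ (h.toRingHom.comp ι₂) fun p => by
      show h ((1 : Ω) ⊗ₜ[C] _) = _
      rw [← coordBC_map]
      exact h.commutes _
    letI : Algebra C Q := ((algebraMap (MvPolynomial σ Ω) Q).comp (algebraMap C (MvPolynomial σ Ω))).toAlgebra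
    let gΩ : Ω →ₐ[C] Q := { (algebraMap (MvPolynomial σ Ω) Q).comp MvPolynomial.C with commutes' := fun c => rfl }
    let gG : G →ₐ[C] Q :=
      { g with
        commutes' := fun c => by
          show g (algebraMap C G c) = _
          rw [IsScalarTower.algebraMap_apply C (MvPolynomial σ C) G, hg]
          show algebraMap (MvPolynomial σ Ω) Q (MvPolynomial.map (algebraMap C Ω) (MvPolynomial.C c)) = _
          rw [MvPolynomial.map_C]
          rfl }
    let F := Algebra.TensorProduct.lift gΩ gG fun x y => Commute.all _ _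
    have hFι : ∀ z, F (ι₂ z) = g z := fun z => by
      show F ((1 : Ω) ⊗ₜ[C] z) = g z
      rw [Algebra.TensorProduct.lift_tmul, map_one, one_mul]
      rfl
    have hFΩ : ∀ o, F (algebraMap Ω _ o) = algebraMap (MvPolynomial σ Ω) Q (MvPolynomial.C o) := fun o => by
      show F (o ⊗ₜ[C] (1 : G)) = _
      rw [Algebra.TensorProduct.lift_tmul, map_one, mul_one]
      rfl
    have hFP : ∀ p, F (algebraMap (MvPolynomial σ Ω) (Ω ⊗[C] G) p) = algebraMap (MvPolynomial σ Ω) Q p := by
      refine RingHom.congr_fun (f := F.toRingHom.comp (algebraMap (MvPolynomial σ Ω) (Ω ⊗[C] G))) ?_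
      refine MvPolynomial.ringHom_ext (fun o => ?_) fun j => ?_
      · show F (coordBC Ω (MvPolynomial.C o)) = _
        rw [coordBC, MvPolynomial.aeval_C, hFΩ]
      · show F (coordBC Ω (MvPolynomial.X j)) = _
        rw [coordBC, MvPolynomial.aeval_X]
        show F (ι₂ _) = _
        rw [hFι, hg]
        show algebraMap (MvPolynomial σ Ω) Q (MvPolynomial.map _ (MvPolynomial.X j)) = _
        rw [MvPolynomial.map_X]
    refine ⟨{ F.toRingHom with commutes' := hFP }, AlgHom.coe_ringHom_injective (hext _ _ (fun o => ?_) fun z => ?_)⟩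
    · show Ideal.Quotient.mk I (F (algebraMap Ω _ o)) = h (algebraMap Ω _ o)
      rw [hFΩ, IsScalarTower.algebraMap_apply Ω (MvPolynomial σ Ω) (Ω ⊗[C] G), AlgHom.commutes]
      rfl
    · show Ideal.Quotient.mk I (F (ι₂ z)) = h (ι₂ z)
      rw [hFι]
      exact hgh z

end baseChange

/-- A fibrewise generic prime of affine space contains no coordinate. -/
theorem X_not_mem_of_minimal (q : Ideal (MvPolynomial σ C)) [q.IsPrime]
    (hq : ∀ q' : Ideal (MvPolynomial σ C), q'.IsPrime → q' ≤ q → q'.comap MvPolynomial.C = q.comap MvPolynomial.C → q' = q)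
    (j : σ) : (MvPolynomial.X j : MvPolynomial σ C) ∉ q := by
  intro hj
  classical
  let p := q.comap (MvPolynomial.C (σ := σ))
  have hcomap : (p.map (MvPolynomial.C (σ := σ))).comap MvPolynomial.C = p := by
    refine le_antisymm (fun c hc => ?_) Ideal.le_comap_map
    simpa using MvPolynomial.mem_map_C_iff.1 hc 0
  haveI : (p.map (MvPolynomial.C (σ := σ))).IsPrime := (Ideal.Quotient.isDomain_iff_prime _).1
    (MvPolynomial.quotientEquivQuotientMvPolynomial p).symm.toMulEquiv.isDomain
  have heq := hq _ inferInstance Ideal.map_comap_le hcomap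
  rw [← heq, MvPolynomial.mem_map_C_iff] at hj
  exact (inferInstance : q.IsPrime).ne_top
    ((Ideal.eq_top_iff_one _).2 (by simpa [p, MvPolynomial.coeff_X] using hj (Finsupp.single j 1)))

theorem isPrime_span_X {C : Type u} [CommRing C] [IsDomain C] {σ : Type u} (j : σ) :
    (Ideal.span {(MvPolynomial.X j : MvPolynomial σ C)}).IsPrime := by
  classical
  let f : MvPolynomial σ C →ₐ[C] MvPolynomial σ C := MvPolynomial.aeval (Function.update MvPolynomial.X j 0)
  have hd : ∀ p, MvPolynomial.X j ∣ p - f p := fun p => by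
    induction p using MvPolynomial.induction_on with
    | C c => simp [f]
    | add p q hp hq => rw [map_add, add_sub_add_comm]; exact dvd_add hp hq
    | mul_X p i hp =>
      have hi : f (MvPolynomial.X i) = Function.update MvPolynomial.X j 0 i := MvPolynomial.aeval_X _ _
      rw [map_mul, hi]
      rcases eq_or_ne i j with rfl | hij
      · rw [Function.update_self, mul_zero, sub_zero]
        exact dvd_mul_left _ _
      · rw [Function.update_of_ne hij, ← sub_mul]
        exact dvd_mul_of_dvd_left hp _
  have hker : RingHom.ker f = Ideal.span {(MvPolynomial.X j : MvPolynomial σ C)} := by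
    refine le_antisymm (fun p hp => Ideal.mem_span_singleton.2 ?_) ((Ideal.span_singleton_le_iff_mem _).2 ?_)
    · have := hd p
      rwa [RingHom.mem_ker.1 hp, sub_zero] at this
    · simp [f, RingHom.mem_ker]
  exact hker ▸ RingHom.ker_isPrime f

omit [IsScalarTower C (MvPolynomial σ C) G] [Algebra C G] [Finite σ] in
/-- A coordinate generates the maximal ideal of a one-dimensional local ring of a chart over a field. -/
theorem maximalIdeal_eq_coord [IsDomain C] (j : σ) (y : Ideal G) [y.IsPrime] (A : Type u) [CommRing A]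
    [Algebra G A] [IsLocalization.AtPrime A y] [IsDomain A] [IsDiscreteValuationRing A]
    (hy : algebraMap (MvPolynomial σ C) G (MvPolynomial.X j) ∈ y) :
    maximalIdeal A = Ideal.span {algebraMap G A (algebraMap (MvPolynomial σ C) G (MvPolynomial.X j))} := by
  letI : Algebra (MvPolynomial σ C) A := ((algebraMap G A).comp (algebraMap (MvPolynomial σ C) G)).toAlgebra
  haveI : IsScalarTower (MvPolynomial σ C) G A := IsScalarTower.of_algebraMap_eq fun _ => rfl
  have hgood := RelKummer.isGood_of_localization (P := MvPolynomial σ C) y.primeCompl A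
  have hX := isPrime_span_X (C := C) j
  haveI : _root_.IsReduced (MvPolynomial σ C ⧸ Ideal.span {(MvPolynomial.X j : MvPolynomial σ C)}) :=
    (Ideal.isRadical_iff_quotient_reduced _).1 hX.isRadical
  have hrad := (Ideal.isRadical_iff_quotient_reduced _).2
    (hgood.2 (Ideal.span {(MvPolynomial.X j : MvPolynomial σ C)}) inferInstance)
  rw [Ideal.map_span, Set.image_singleton] at hrad
  set x := algebraMap (MvPolynomial σ C) A (MvPolynomial.X j) with hx
  have hx0 : x ≠ 0 := by
    haveI := hgood.1
    have hreg := Module.Flat.isSMulRegular_of_nonZeroDivisors (M := A)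
      (mem_nonZeroDivisors_of_ne_zero (MvPolynomial.X_ne_zero j : (MvPolynomial.X j : MvPolynomial σ C) ≠ 0))
    intro h0
    refine one_ne_zero (hreg (show (MvPolynomial.X j : MvPolynomial σ C) • (1 : A) = _ • 0 from ?_))
    rw [Algebra.smul_def, smul_zero, ← hx, h0, zero_mul]
  have hxm : x ∈ maximalIdeal A :=
    (IsLocalization.AtPrime.to_map_mem_maximal_iff A y _).2 hy
  show maximalIdeal A = Ideal.span {x}
  obtain ⟨ϖ, hϖ⟩ := IsDiscreteValuationRing.exists_irreducible A
  obtain ⟨k, hk⟩ := IsDiscreteValuationRing.ideal_eq_span_pow_irreducible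
    (Ideal.span_singleton_eq_bot.not.2 hx0) hϖ
  rw [hϖ.maximalIdeal_eq]
  have hk0 : k ≠ 0 := by
    rintro rfl
    rw [pow_zero, Ideal.span_singleton_one, Ideal.eq_top_iff_one] at hk
    exact (maximalIdeal.isMaximal A).ne_top (Ideal.eq_top_of_isUnit_mem _ hxm
      (isUnit_of_dvd_one (Ideal.mem_span_singleton.1 hk)))
  refine le_antisymm ((Ideal.span_singleton_le_iff_mem _).2 ?_) ?_
  · exact hrad ⟨k, hk ▸ Ideal.mem_span_singleton_self _⟩
  · rw [hk, Ideal.span_singleton_le_span_singleton]
    exact dvd_pow_self _ hk0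

end Groth.Agent.RelChart

end
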