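import Groth.Agent.RelChart.Alg
import Groth.Agent.RelPure.DescExt
import Groth.Agent.AbhAbs.Scheme

/-!
# The complement of the coordinate divisor in a chart
-/

set_option autoImplicit false
attribute [-instance] CategoryTheory.catToReflQuiver
set_option linter.style.haveILetI false
set_option backward.isDefEq.respectTransparency false
set_option backward.isDefEq.respectTransparency.types false

universe u

open CategoryTheory CategoryTheory.Limits AlgebraicGeometry

noncomputable section

namespace Groth.Agent.RelChart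

open Groth.Agent Groth.Agent.RelPure Groth.Agent.RGLib

variable {C G : Type u} [CommRing C] [CommRing G] {σ : Type u} [Finite σ] [Algebra C G]
  [Algebra (MvPolynomial σ C) G] [IsScalarTower C (MvPolynomial σ C) G] [Algebra.Etale (MvPolynomial σ C) G]
  {ι : Type} [Fintype ι] (e : ι → σ)

theorem mem_of_fibMax (η : Spec (CommRingCat.of G))
    (hη : IsFibMax (Spec.map (CommRingCat.ofHom (algebraMap C G))) η) :
    (η : PrimeSpectrum G) ∈ PrimeSpectrum.basicOpen (∏ i, aOf (C := C) e i : G) := by
  let c := Spec.map (CommRingCat.ofHom (algebraMap (MvPolynomial σ C) G))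
  let g := Spec.map (CommRingCat.ofHom (algebraMap C (MvPolynomial σ C)))
  haveI : Flat c := HasRingHomProperty.Spec_iff.2
    (RingHom.flat_algebraMap_iff.2 (Algebra.Smooth.flat (MvPolynomial σ C) G))
  have hcg : Spec.map (CommRingCat.ofHom (algebraMap C G)) = c ≫ g := by
    rw [← Spec.map_comp, ← CommRingCat.ofHom_comp, ← IsScalarTower.algebraMap_eq]
  rw [hcg] at hη
  have h := isFibMax_of_flat c g hη
  show (∏ i, aOf (C := C) e i : G) ∉ (η : PrimeSpectrum G).asIdeal
  intro hmem
  obtain ⟨i, -, hi⟩ := ((η : PrimeSpectrum G).isPrime.prod_mem_iff).1 hmem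
  haveI := (c η : PrimeSpectrum (MvPolynomial σ C)).isPrime
  refine X_not_mem_of_minimal (c η : PrimeSpectrum (MvPolynomial σ C)).asIdeal (fun q hq hle hc => ?_) (e i) hi
  exact congrArg PrimeSpectrum.asIdeal (h (⟨q, hq⟩ : PrimeSpectrum (MvPolynomial σ C))
    ((PrimeSpectrum.le_iff_specializes (⟨q, hq⟩ : PrimeSpectrum (MvPolynomial σ C)) _).1 hle) (PrimeSpectrum.ext hc))

theorem etale_restrict (n : ι → ℕ) (hn : ∀ i, 1 ≤ n i) (hu : ∀ i, IsUnit ((n i : ℕ) : G)) (a : ι → G)
    (U : (Spec (CommRingCat.of G)).Opens)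
    (hU : (U : Set (Spec (CommRingCat.of G))) = (PrimeSpectrum.basicOpen (∏ i, a i) : Set (PrimeSpectrum G))) :
    Etale (Spec.map (CommRingCat.ofHom (algebraMap G (Kummer.K G a n))) ∣_ U) := by
  let F := ∏ i, a i
  let π := Spec.map (CommRingCat.ofHom (algebraMap G (Kummer.K G a n)))
  obtain ⟨D, _, _, _, _, h1, h2, h3⟩ := RelKummer.exists_away (R := Kummer.K G a n) F (Localization.Away F)
  haveI := h1
  haveI := h2
  haveI := h3
  haveI : Algebra.Etale (Localization.Away F) D :=
    RelKummer.etale_away a n hn hu F (fun i => Finset.dvd_prod_of_mem a (Finset.mem_univ i)) (Localization.Away F) D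
  have hU' : ((π ⁻¹ᵁ U : Scheme.Opens _) : Set (Spec (CommRingCat.of (Kummer.K G a n)))) =
      (PrimeSpectrum.basicOpen (algebraMap G (Kummer.K G a n) F) : Set (PrimeSpectrum (Kummer.K G a n))) := by
    show π.base ⁻¹' (U : Set (Spec (CommRingCat.of G))) = _
    rw [hU]
    rfl
  let eK := AbhAbs.specAwayIso (algebraMap G (Kummer.K G a n) F) D (π ⁻¹ᵁ U) hU'
  let eB := AbhAbs.specAwayIso F (Localization.Away F) U hU
  have he : π ∣_ U = eK.inv ≫ Spec.map (CommRingCat.ofHom (algebraMap (Localization.Away F) D)) ≫ eB.hom := by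
    rw [← cancel_mono U.ι]
    rw [← cancel_epi eK.hom]
    simp only [Category.assoc, Iso.hom_inv_id_assoc, morphismRestrict_ι]
    rw [AbhAbs.specAwayIso_ι, ← Category.assoc, AbhAbs.specAwayIso_ι, ← Spec.map_comp, ← Spec.map_comp,
      ← CommRingCat.ofHom_comp, ← CommRingCat.ofHom_comp, ← IsScalarTower.algebraMap_eq,
      ← IsScalarTower.algebraMap_eq]
  rw [he]
  haveI : Etale (Spec.map (CommRingCat.ofHom (algebraMap (Localization.Away F) D))) :=
    HasRingHomProperty.Spec_iff.2 (RingHom.etale_algebraMap.2 inferInstance)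
  infer_instance

end Groth.Agent.RelChart

end
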