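import Groth.Agent.RelChart.Field
import Groth.Agent.RelKummer.Free
import Groth.Agent.RelPure.Extend

/-!
# Relative Abhyankar lemma on a chart
-/

set_option autoImplicit false
attribute [-instance] CategoryTheory.catToReflQuiver
set_option linter.style.haveILetI false
set_option backward.isDefEq.respectTransparency false
set_option backward.isDefEq.respectTransparency.types false

universe u

open CategoryTheory CategoryTheory.Limits AlgebraicGeometry IsLocalRing TensorProduct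

noncomputable section

namespace Groth.Agent.RelChart

open Groth.Agent Groth.Agent.RelPure Groth.Agent.RelDvr Groth.Agent.Pi1Ext.Spread Groth.Agent.RGLib

/-- Transport of an extension to the base change along a residue field. -/
theorem extendsAlong_of_extension {X S S' X'' : Scheme.{u}} {f : X ⟶ S} {U : X.Opens} {V : FEt.Cat (U : Scheme.{u})}
    {g : S' ⟶ S} {q : X'' ⟶ X} {f'' : X'' ⟶ S'} (sq : IsPullback q f'' f g) (E : FEt.Cat X'')
    (i : (FEt.restrict (q ⁻¹ᵁ U).ι).obj E ≅ (FEt.restrict (q ∣_ U)).obj V) : ExtendsAlong f U V g := by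
  let a := pullback.fst f g
  let m : pullback f g ⟶ X'' := sq.lift a (pullback.snd f g) pullback.condition
  have hm : m ≫ q = a := sq.lift_fst _ _ _
  let O := a ⁻¹ᵁ U
  let m' : (O : Scheme.{u}) ⟶ (q ⁻¹ᵁ U : Scheme.Opens _) := IsOpenImmersion.lift (q ⁻¹ᵁ U).ι (O.ι ≫ m) (by
    rintro _ ⟨z, rfl⟩
    rw [Scheme.Opens.range_ι]
    show ((O.ι ≫ m) ≫ q) z ∈ U
    rw [Category.assoc, hm]
    exact z.2)
  exact ⟨(FEt.restrict m).obj E, exists_restrict_iso m m' (IsOpenImmersion.lift_fac _ _ _) (a ∣_ U)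
    (by rw [morphismRestrict_ι, hm]) i⟩

/-- The base change of a restriction. -/
theorem isPullback_restrict {W X X' W' : Scheme.{u}} {π : W ⟶ X} {b : X' ⟶ X} {q : W' ⟶ W} {p : W' ⟶ X'}
    (sq : IsPullback q p π b) (U : X.Opens) :
    ∃ m : (p ⁻¹ᵁ b ⁻¹ᵁ U : Scheme.Opens _).toScheme ⟶ (π ⁻¹ᵁ U : Scheme.Opens _).toScheme,
      IsPullback m (p ∣_ (b ⁻¹ᵁ U)) (π ∣_ U) (b ∣_ U) := by
  let U' := b ⁻¹ᵁ U
  have h : ((p ⁻¹ᵁ U').ι ≫ q) ≫ π = (p ∣_ U' ≫ b ∣_ U) ≫ U.ι := by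
    rw [Category.assoc, Category.assoc, sq.w, morphismRestrict_ι, morphismRestrict_ι_assoc]
  let m : (p ⁻¹ᵁ U' : Scheme.Opens _).toScheme ⟶ (π ⁻¹ᵁ U : Scheme.Opens _).toScheme :=
    (isPullback_morphismRestrict π U).lift (p ∣_ U' ≫ b ∣_ U) ((p ⁻¹ᵁ U').ι ≫ q) h.symm
  have hm : m ≫ (π ⁻¹ᵁ U).ι = (p ⁻¹ᵁ U').ι ≫ q := IsPullback.lift_snd _ _ _ _
  refine ⟨m, IsPullback.of_right ?_ (IsPullback.lift_fst _ _ _ _) (isPullback_morphismRestrict π U).flip⟩
  rw [hm, morphismRestrict_ι]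
  exact (isPullback_morphismRestrict p U').flip.paste_horiz sq

variable {C G : Type u} [CommRing C] [CommRing G] {σ : Type u} [Finite σ] [Algebra C G]
  [Algebra (MvPolynomial σ C) G] [IsScalarTower C (MvPolynomial σ C) G] [Algebra.Etale (MvPolynomial σ C) G]
  {ι : Type} [Fintype ι] (e : ι → σ) (n : ι → ℕ)

variable (G) in
/-- The structure map of a geometric fibre. -/
abbrev toFibre (Ω : Type u) [Field Ω] [Algebra C Ω] :
    Spec (CommRingCat.of (Ω ⊗[C] G)) ⟶ Spec (CommRingCat.of G) :=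
  Spec.map (CommRingCat.ofHom (Algebra.TensorProduct.includeRight : G →ₐ[C] Ω ⊗[C] G).toRingHom)

/-- A cover of the complement of the divisor of a chart that is tame over the geometric fibres at the maximal points
extends to the Kummer cover. -/
theorem exists_extend_chart (he : Function.Injective e) (hn : ∀ i, 1 ≤ n i) (hu : ∀ i, IsUnit ((n i : ℕ) : C))
    (U : (Spec (CommRingCat.of G)).Opens)
    (hU : (U : Set (Spec (CommRingCat.of G))) = (PrimeSpectrum.basicOpen (∏ i, aOf (C := C) (G := G) e i) : Set (PrimeSpectrum G)))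
    (V : FEt.Cat (U : Scheme.{u}))
    (ht : ∀ (Ω : Type u) [Field Ω] [IsAlgClosed Ω] [Algebra C Ω],
      (∀ q : Ideal C, q.IsPrime → q ≤ RingHom.ker (algebraMap C Ω) → q = RingHom.ker (algebraMap C Ω)) →
      ∀ (hU' : ∀ η, IsFibMax (Spec.map (CommRingCat.ofHom (algebraMap Ω (Ω ⊗[C] G)))) η → η ∈ toFibre G Ω ⁻¹ᵁ U)
        (y : Spec (CommRingCat.of (Ω ⊗[C] G))) [IsDomain ((Spec (CommRingCat.of (Ω ⊗[C] G))).presheaf.stalk y)]
        [IsDiscreteValuationRing ((Spec (CommRingCat.of (Ω ⊗[C] G))).presheaf.stalk y)] (i : ι),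
        (1 : Ω) ⊗ₜ[C] aOf (C := C) e i ∈ (y : PrimeSpectrum (Ω ⊗[C] G)).asIdeal →
        TameAt (Spec.map (CommRingCat.ofHom (algebraMap Ω (Ω ⊗[C] G)))) (toFibre G Ω ⁻¹ᵁ U) hU'
          ((FEt.restrict (toFibre G Ω ∣_ U)).obj V) y (n i)) :
    let π := Spec.map (CommRingCat.ofHom (algebraMap G (Kummer.K G (aOf (C := C) e) n)))
    ∃ Y : FEt.Cat (Spec (CommRingCat.of (Kummer.K G (aOf (C := C) e) n))),
      Nonempty ((FEt.restrict (π ⁻¹ᵁ U).ι).obj Y ≅ (FEt.restrict (π ∣_ U)).obj V) := by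
  intro π
  let f := Spec.map (CommRingCat.ofHom (algebraMap C G))
  haveI : IsFinite π := (IsFinite.SpecMap_iff _).2 (RingHom.finite_algebraMap.2 (Kummer.finite _ n hn))
  haveI : Flat π := HasRingHomProperty.Spec_iff.2 (RingHom.flat_algebraMap_iff.2
    (haveI := RelKummer.free (aOf (C := C) e : ι → G) n hn; inferInstance))
  have huG : ∀ i, IsUnit ((n i : ℕ) : G) := fun i => by
    have := (hu i).map (algebraMap C G)
    rwa [map_natCast] at this
  haveI : Etale (π ∣_ U) := etale_restrict n hn huG _ U hU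
  haveI : Smooth (π ≫ f) := by
    rw [← Spec.map_comp, ← CommRingCat.ofHom_comp]
    exact HasRingHomProperty.Spec_iff.2 (smooth_kummer e n he)
  haveI : Algebra.Smooth C (MvPolynomial σ C) := ⟨inferInstance, inferInstance⟩
  haveI : Algebra.Smooth C G := Algebra.Smooth.comp C (MvPolynomial σ C) G
  haveI : Smooth f := HasRingHomProperty.Spec_iff.2 (RingHom.smooth_algebraMap.2 inferInstance)
  have hUd : ∀ η, IsFibMax f η → η ∈ U := fun η hη => hU.ge (mem_of_fibMax e η hη)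
  refine exists_extend (π ≫ f) (fun η hη => hUd _ (isFibMax_of_flat π f hη)) fun s hs => ?_
  let P := (s : PrimeSpectrum C).asIdeal
  let Ω := AlgebraicClosure P.ResidueField
  letI : Algebra C Ω := ((algebraMap P.ResidueField Ω).comp (algebraMap C P.ResidueField)).toAlgebra
  have hker : RingHom.ker (algebraMap C Ω) = P := by
    rw [RingHom.algebraMap_toAlgebra, RingHom.ker_comp_of_injective _ (algebraMap P.ResidueField Ω).injective]
    exact Ideal.ker_algebraMap_residueField P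
  have hmin : ∀ q : Ideal C, q.IsPrime → q ≤ RingHom.ker (algebraMap C Ω) → q = RingHom.ker (algebraMap C Ω) := by
    rw [hker]
    intro q hq hle
    exact congrArg PrimeSpectrum.asIdeal (hs (⟨q, hq⟩ : PrimeSpectrum C)
      ((PrimeSpectrum.le_iff_specializes (⟨q, hq⟩ : PrimeSpectrum C) s).1 hle))
  let g := Spec.map (CommRingCat.ofHom (algebraMap C Ω))
  let s' : Spec (CommRingCat.of Ω) := (⟨⊥, Ideal.isPrime_bot⟩ : PrimeSpectrum Ω)
  have hgs : g s' = s := PrimeSpectrum.ext hker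
  -- the geometric fibre of the chart
  let b := toFibre (C := C) G Ω
  let f' := Spec.map (CommRingCat.ofHom (algebraMap Ω (Ω ⊗[C] G)))
  letI : Algebra G (Ω ⊗[C] G) := Algebra.TensorProduct.rightAlgebra
  have sq₀ : IsPullback b f' f g :=
    (isPullback_SpecMap_of_isPushout _ _ _ _ (CommRingCat.isPushout_tensorProduct C Ω G)).flip
  let q := pullback.fst π b
  let p := pullback.snd π b
  have sq₁ : IsPullback q p π b := IsPullback.of_hasPullback π b
  have sq : IsPullback q (p ≫ f') (π ≫ f) g := sq₁.paste_vert sq₀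
  haveI : IsFinite p := MorphismProperty.pullback_snd _ _ ‹_›
  haveI : Flat p := MorphismProperty.pullback_snd _ _ ‹_›
  haveI : Smooth (p ≫ f') := MorphismProperty.of_isPullback sq ‹_›
  obtain ⟨mr, hmr⟩ := isPullback_restrict sq₁ U
  haveI : Etale (p ∣_ (b ⁻¹ᵁ U)) := MorphismProperty.of_isPullback hmr ‹_›
  letI : Algebra (MvPolynomial σ Ω) (Ω ⊗[C] G) := (coordBC (C := C) (G := G) (σ := σ) Ω).toRingHom.toAlgebra
  haveI : IsScalarTower Ω (MvPolynomial σ Ω) (Ω ⊗[C] G) :=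
    IsScalarTower.of_algebraMap_eq fun o => ((coordBC (C := C) (G := G) (σ := σ) Ω).commutes o).symm
  haveI : Algebra.Etale (MvPolynomial σ Ω) (Ω ⊗[C] G) := etale_coordBC (C := C) (G := G) (σ := σ) Ω
  have ha : ∀ i, (aOf (C := Ω) e i : Ω ⊗[C] G) = (1 : Ω) ⊗ₜ[C] aOf (C := C) e i := fun i =>
    MvPolynomial.aeval_X _ _
  have hUb : ∀ y : Spec (CommRingCat.of (Ω ⊗[C] G)),
      y ∈ b ⁻¹ᵁ U ↔ (∏ i, aOf (C := Ω) e i : Ω ⊗[C] G) ∉ (y : PrimeSpectrum (Ω ⊗[C] G)).asIdeal := fun y => by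
    have hy : y ∈ b ⁻¹ᵁ U ↔ (∏ i, aOf (C := C) e i : G) ∉ (b y : PrimeSpectrum G).asIdeal := Set.ext_iff.1 hU (b y)
    rw [hy, show (∏ i, aOf (C := Ω) e i : Ω ⊗[C] G) =
      (Algebra.TensorProduct.includeRight : G →ₐ[C] Ω ⊗[C] G) (∏ i, aOf (C := C) e i) by
        rw [map_prod]; exact Finset.prod_congr rfl fun i _ => ha i]
    rfl
  let τ : ι → Γ(Spec (CommRingCat.of (Kummer.K G (aOf (C := C) e) n)), ⊤) := fun i =>
    (Scheme.ΓSpecIso (CommRingCat.of (Kummer.K G (aOf (C := C) e) n))).inv (Kummer.T _ n i)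
  haveI : Smooth f' := MorphismProperty.of_isPullback sq₀ ‹_›
  have hU' : ∀ η, IsFibMax f' η → η ∈ b ⁻¹ᵁ U := fun η hη => hUd _ (isFibMax_of_isPullback sq₀ hη)
  obtain ⟨Y, ⟨i⟩⟩ := exists_extend_chart_field (Ω := Ω) e n p (b ⁻¹ᵁ U) hUb hn (fun i => q.appTop (τ i))
    (fun i => by
      rw [ha, ← map_pow, ← map_pow, Kummer.T_pow]
      have h1 : (Scheme.ΓSpecIso _).inv (algebraMap G (Kummer.K G (aOf (C := C) e) n) (aOf (C := C) e i)) =
          π.appTop ((Scheme.ΓSpecIso (CommRingCat.of G)).inv (aOf (C := C) e i)) :=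
        ConcreteCategory.congr_hom (Scheme.ΓSpecIso_inv_naturality
          (CommRingCat.ofHom (algebraMap G (Kummer.K G (aOf (C := C) e) n)))) _
      have h2 : (Scheme.ΓSpecIso (CommRingCat.of (Ω ⊗[C] G))).inv ((1 : Ω) ⊗ₜ[C] aOf (C := C) e i) =
          b.appTop ((Scheme.ΓSpecIso (CommRingCat.of G)).inv (aOf (C := C) e i)) :=
        ConcreteCategory.congr_hom (Scheme.ΓSpecIso_inv_naturality
          (CommRingCat.ofHom (Algebra.TensorProduct.includeRight : G →ₐ[C] Ω ⊗[C] G).toRingHom)) _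
      rw [h1, h2]
      exact ConcreteCategory.congr_hom (congrArg Scheme.Hom.appTop sq₁.w) _)
    hU' ((FEt.restrict (b ∣_ U)).obj V) fun y _ _ i hi => ht Ω hmin hU' y i (ha i ▸ hi)
  let pb := p ≫ b
  have hpb : pb = q ≫ π := sq₁.w.symm
  let X'' := pullback π b
  let O := q ⁻¹ᵁ π ⁻¹ᵁ U
  have hO : (p ≫ b) ⁻¹ᵁ U = O := by rw [← sq₁.w]; rfl
  let j : (O : Scheme.{u}) ⟶ (p ⁻¹ᵁ b ⁻¹ᵁ U : Scheme.Opens _).toScheme := X''.homOfLE hO.ge
  obtain ⟨e₁⟩ := exists_restrict_iso (U := b ⁻¹ᵁ U) (p := p) (O := O) (𝟙 X'') j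
    (by rw [Category.comp_id]; exact X''.homOfLE_ι _) (j ≫ p ∣_ (b ⁻¹ᵁ U))
    (by rw [Category.assoc, morphismRestrict_ι, Category.id_comp]; exact X''.homOfLE_ι_assoc _ _) i
  have h3 : q ∣_ (π ⁻¹ᵁ U) ≫ π ∣_ U = (j ≫ p ∣_ (b ⁻¹ᵁ U)) ≫ b ∣_ U := by
    rw [← cancel_mono U.ι]
    simp only [Category.assoc, morphismRestrict_ι]
    rw [morphismRestrict_ι_assoc, morphismRestrict_ι_assoc, ← sq₁.w, Scheme.homOfLE_ι_assoc]
  have hE := extendsAlong_of_extension (U := π ⁻¹ᵁ U) (V := (FEt.restrict (π ∣_ U)).obj V) sq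
    ((FEt.restrict (𝟙 X'')).obj Y) (e₁ ≪≫ (restrictComp (j ≫ p ∣_ (b ⁻¹ᵁ U)) (b ∣_ U) _ h3 V).symm ≪≫
      restrictComp (q ∣_ (π ⁻¹ᵁ U)) (π ∣_ U) _ rfl V)
  rw [← hgs]
  haveI : Smooth (p ≫ f') := inferInstance
  refine ExtendsAlong.descend sq (fun η hη => hUd _ (isFibMax_of_flat π f hη)) s' ?_
  obtain ⟨E, ⟨ei⟩⟩ := hE
  let m : pullback (p ≫ f') ((Spec (CommRingCat.of Ω)).fromSpecResidueField s') ⟶ pullback (π ≫ f) g :=
    pullback.map _ _ _ _ q ((Spec (CommRingCat.of Ω)).fromSpecResidueField s') g sq.w.symm rfl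
  exact ExtendsAlong.of_map ⟨E, ⟨ei⟩⟩ q m (pullback.lift_fst _ _ _)

end Groth.Agent.RelChart

end
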