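import Groth.Agent.RelChart.Dense
import Groth.Agent.RelDvr.Field

/-!
# Extension of a cover to a Kummer cover of a chart over a field
-/

set_option autoImplicit false
attribute [-instance] CategoryTheory.catToReflQuiver
set_option linter.style.haveILetI false
set_option backward.isDefEq.respectTransparency false
set_option backward.isDefEq.respectTransparency.types false

universe u

open CategoryTheory CategoryTheory.Limits AlgebraicGeometry IsLocalRing

noncomputable section

namespace Groth.Agent.RelChart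

open Groth.Agent Groth.Agent.RelPure Groth.Agent.RelDvr Groth.Agent.Pi1Ext.Spread

/-- The cover restricted to the generic point of a one-dimensional local ring is tame, with index dividing `N`. -/
def TameAt {X : Scheme.{u}} {k : Type u} [Field k] (f : X ⟶ Spec (CommRingCat.of k)) (U : X.Opens)
    (hU : ∀ η, IsFibMax f η → η ∈ U) (V : FEt.Cat (U : Scheme.{u})) (y : X) [IsDomain (X.presheaf.stalk y)]
    [IsDiscreteValuationRing (X.presheaf.stalk y)] (N : ℕ) : Prop :=
  ∀ (L : Type u) [Field L] [Algebra (FractionRing (X.presheaf.stalk y)) L]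
    [FiniteDimensional (FractionRing (X.presheaf.stalk y)) L]
    [Algebra.IsSeparable (FractionRing (X.presheaf.stalk y)) L]
    (φ : Γ(((FEt.restrict (genPt f U hU y)).obj V).left, ⊤) ⟶ CommRingCat.of L),
    GalPtLib.struct ((FEt.restrict (genPt f U hU y)).obj V) ≫ φ =
      CommRingCat.ofHom (algebraMap (FractionRing (X.presheaf.stalk y)) L) →
    Function.Surjective φ.hom →
    TameDvd (X.presheaf.stalk y) ((algebraMap (FractionRing (X.presheaf.stalk y)) L).comp
      (algebraMap (X.presheaf.stalk y) (FractionRing (X.presheaf.stalk y)))) N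

variable {Ω : Type u} [Field Ω] {G : Type u} [CommRing G] {σ : Type u} [Finite σ] [Algebra Ω G]
  [Algebra (MvPolynomial σ Ω) G] [IsScalarTower Ω (MvPolynomial σ Ω) G] [Algebra.Etale (MvPolynomial σ Ω) G]
  {ι : Type} [Fintype ι] (e : ι → σ) (n : ι → ℕ)

/-- Over a field, a tame cover of the complement extends to a cover that adjoins the roots. -/
theorem exists_extend_chart_field {X' : Scheme.{u}} (p : X' ⟶ Spec (CommRingCat.of G)) [IsFinite p] [Flat p]
    [Smooth (p ≫ Spec.map (CommRingCat.ofHom (algebraMap Ω G)))] (U : (Spec (CommRingCat.of G)).Opens)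
    [Etale (p ∣_ U)] (hU : ∀ y : Spec (CommRingCat.of G), y ∈ U ↔ (∏ i, aOf (C := Ω) e i : G) ∉ (y : PrimeSpectrum G).asIdeal)
    (hn : ∀ i, 0 < n i) (z : ι → Γ(X', ⊤))
    (hz : ∀ i, z i ^ n i = p.appTop ((Scheme.ΓSpecIso (CommRingCat.of G)).inv (aOf (C := Ω) e i)))
    (hU' : ∀ η, IsFibMax (Spec.map (CommRingCat.ofHom (algebraMap Ω G))) η → η ∈ U)
    (V : FEt.Cat (U : Scheme.{u}))
    (ht : ∀ (y : Spec (CommRingCat.of G)) [IsDomain ((Spec (CommRingCat.of G)).presheaf.stalk y)]
      [IsDiscreteValuationRing ((Spec (CommRingCat.of G)).presheaf.stalk y)] (i : ι),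
      aOf (C := Ω) e i ∈ (y : PrimeSpectrum G).asIdeal →
      TameAt (Spec.map (CommRingCat.ofHom (algebraMap Ω G))) U hU' V y (n i)) :
    ∃ Y : FEt.Cat X', Nonempty ((FEt.restrict (p ⁻¹ᵁ U).ι).obj Y ≅ (FEt.restrict (p ∣_ U)).obj V) := by
  haveI : Algebra.Smooth Ω (MvPolynomial σ Ω) := ⟨inferInstance, inferInstance⟩
  haveI : Algebra.Smooth Ω G := Algebra.Smooth.comp Ω (MvPolynomial σ Ω) G
  let f := Spec.map (CommRingCat.ofHom (algebraMap Ω G))
  haveI : Smooth f := HasRingHomProperty.Spec_iff.2 (RingHom.smooth_algebraMap.2 inferInstance)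
  haveI : IsLocallyNoetherian X' := LocallyOfFiniteType.isLocallyNoetherian (p ≫ f)
  haveI : CompactSpace X' := QuasiCompact.compactSpace_of_compactSpace p
  haveI : IsNoetherian X' := ⟨⟩
  refine exists_extend_field f p U hU' V fun x' _ _ hx => ?_
  obtain ⟨i, -, hi⟩ := ((p x' : PrimeSpectrum G).isPrime.prod_mem_iff).1
    (not_not.1 fun h => hx ((hU (p x')).2 h))
  letI : Algebra G ((Spec (CommRingCat.of G)).presheaf.stalk (p x')) :=
    StructureSheaf.stalkAlgebra (R := G) (p x' : PrimeSpectrum G)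
  haveI : IsLocalization.AtPrime ((Spec (CommRingCat.of G)).presheaf.stalk (p x')) (p x' : PrimeSpectrum G).asIdeal :=
    StructureSheaf.IsLocalization.to_stalk (R := G) (p x' : PrimeSpectrum G)
  have hmax := maximalIdeal_eq_coord (C := Ω) (e i) (p x' : PrimeSpectrum G).asIdeal
    ((Spec (CommRingCat.of G)).presheaf.stalk (p x')) hi
  let τ := (Scheme.ΓSpecIso (CommRingCat.of G)).inv (aOf (C := Ω) e i)
  refine ⟨(Spec (CommRingCat.of G)).presheaf.germ ⊤ (p x') trivial τ, n i,
    X'.presheaf.germ ⊤ x' trivial (z i), hmax.trans ?_, hn i, ?_, ht (p x') i hi⟩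
  · rfl
  · rw [Scheme.Hom.germ_stalkMap_apply, ← map_pow, hz]
    rfl

end Groth.Agent.RelChart

end
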