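import Groth.Agent.ExtGlue.Main
import Groth.Agent.Pi1Ext.Spread

/-!
# Gluing where restriction is fully faithful on a basis
-/

set_option autoImplicit false
set_option linter.style.haveILetI false
set_option backward.isDefEq.respectTransparency false
set_option backward.isDefEq.respectTransparency.types false
universe u

open CategoryTheory CategoryTheory.Limits AlgebraicGeometry TopologicalSpace

noncomputable section

namespace Groth.Agent.RelChart

open Groth.Agent Groth.Agent.ExtGlue Groth.Agent.Pi1Ext.Spread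

variable {X : Scheme.{u}} {U : X.Opens} {Y : FEt.Cat (U : Scheme.{u})}

section extend

variable (B : Set X.Opens) (hB : Opens.IsBasis {W : X.Opens | W ∈ B ∧ Nonempty (Ext U Y W)})
  (hF : ∀ W ∈ B, (FEt.restrict (X.homOfLE (inf_le_left : W ⊓ U ≤ W))).Full ∧
    (FEt.restrict (X.homOfLE (inf_le_left : W ⊓ U ≤ W))).Faithful)

include hB hF in
theorem exists_extension (hU : Nonempty (Ext U Y U)) (hUB : U ∈ B) :
    ∃ Y' : FEt.Cat X, Nonempty ((FEt.restrict U.ι).obj Y' ≅ Y) := by
  let I := {W : X.Opens // W ∈ B ∧ Nonempty (Ext U Y W)}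
  let e : (W : I) → Ext U Y W.1 := fun W => W.2.2.some
  have hcov : (⨆ W : I, W.1) = ⊤ := top_le_iff.1 fun x _ => by
    obtain ⟨W, hW, hxW, -⟩ := Opens.isBasis_iff_nbhd.1 hB (show x ∈ (⊤ : X.Opens) from trivial)
    exact Opens.mem_iSup.2 ⟨⟨W, hW⟩, hxW⟩
  let 𝒰 : X.OpenCover := X.openCoverOfIsOpenCover (fun W : I => W.1) hcov
  letI : Preorder 𝒰.I₀ := inferInstanceAs (Preorder I)
  letI : 𝒰.LocallyDirected := .ofIsBasisOpensRange
    (fun {i j} => by
      show i.1 ≤ j.1 ↔ (Scheme.Opens.ι i.1).opensRange ≤ (Scheme.Opens.ι j.1).opensRange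
      rw [Scheme.Opens.opensRange_ι, Scheme.Opens.opensRange_ι])
    (by
      have : (Set.range fun i : 𝒰.I₀ => (𝒰.f i).opensRange) = {W : X.Opens | W ∈ B ∧ Nonempty (Ext U Y W)} := by
        ext W
        constructor
        · rintro ⟨i, rfl⟩
          show (Scheme.Opens.ι i.1).opensRange ∈ B ∧ Nonempty (Ext U Y (Scheme.Opens.ι i.1).opensRange)
          rw [Scheme.Opens.opensRange_ι]; exact i.2
        · exact fun hW => ⟨⟨W, hW⟩, Scheme.Opens.opensRange_ι W⟩
      rw [this]; exact hB)
  have htr : ∀ (i j : I) (hij : i ≤ j), 𝒰.trans (i := i) (j := j) (homOfLE hij) = X.homOfLE (show i.1 ≤ j.1 from hij) :=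
    fun i j hij => by
      rw [← cancel_mono (Scheme.Opens.ι j.1), X.homOfLE_ι]
      exact 𝒰.trans_map _
  choose m hm hmp using fun (i j : I) (hij : i.1 ≤ j.1) => (e i).exists_isHom (e' := e j) hij (hF i.1 i.2.1)
  let Fn : 𝒰.I₀ ⥤ Scheme.{u} :=
    { obj := fun i => (e i).E.left
      map := fun {i j} f => m i j (leOfHom f)
      map_id := fun i => (hm i i _).eq (e i).isHom_id (hF i.1 i.2.1).2
      map_comp := fun {i j k} f g => (hm i k _).eq ((hm i j _).comp (hm j k _)) (hF i.1 i.2.1).2 }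
  let τ : Fn ⟶ 𝒰.functorOfLocallyDirected :=
    { app := fun i => (e i).E.hom
      naturality := fun i j f => by
        show m i j (leOfHom f) ≫ (e j).E.hom = (e i).E.hom ≫ 𝒰.trans f
        rw [show 𝒰.trans f = X.homOfLE (leOfHom f : i.1 ≤ j.1) from htr i j (leOfHom f)]
        exact (hm i j (leOfHom f)).w }
  let d : 𝒰.RelativeGluingData :=
    { functor := Fn
      natTrans := τ
      equifibered := fun {i j} f => by
        show IsPullback (m i j (leOfHom f)) (e i).E.hom (e j).E.hom (𝒰.trans f)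
        rw [show 𝒰.trans f = X.homOfLE (leOfHom f : i.1 ≤ j.1) from htr i j (leOfHom f)]
        exact hmp i j (leOfHom f) }
  haveI : Quiver.IsThin 𝒰.I₀ := inferInstanceAs (Quiver.IsThin I)
  haveI : Small.{u} 𝒰.I₀ := inferInstanceAs (Small.{u} I)
  haveI : (d.functor ⋙ Scheme.forget).IsLocallyDirected :=
    Scheme.Cover.RelativeGluingData.instIsLocallyDirectedI₀CompFunctorForgetOfIsThin ..
  haveI : ∀ {i j : 𝒰.I₀} (f : i ⟶ j), IsOpenImmersion (d.functor.map f) := fun {i j} f => by
    refine MorphismProperty.of_isPullback (P := @IsOpenImmersion) (hmp i j (leOfHom f)).flip ?_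
    infer_instance
  have hsq : ∀ i : I, IsPullback (e i).E.hom (colimit.ι d.functor i) (Scheme.Opens.ι i.1) d.toBase :=
    fun i => d.isPullback_natTrans_ι_toBase i
  have hprop : FEt.prop d.toBase := by
    constructor
    · refine IsZariskiLocalAtTarget.of_iSup_eq_top (P := @IsFinite) (fun W : I => W.1) hcov fun W => ?_
      have h1 : IsFinite (e W).E.hom := (e W).E.prop.1
      exact ((MorphismProperty.arrow_mk_iso_iff @IsFinite (Arrow.isoMk ((hsq W).flip.isoPullback ≪≫ (pullbackRestrictIsoRestrict d.toBase W.1)) (Iso.refl _) (by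
          simp [← cancel_mono (Scheme.Opens.ι W.1)]))).1 h1)
    · refine IsZariskiLocalAtTarget.of_iSup_eq_top (P := @Etale) (fun W : I => W.1) hcov fun W => ?_
      have h1 : Etale (e W).E.hom := (e W).E.prop.2
      exact (MorphismProperty.arrow_mk_iso_iff @Etale (Arrow.isoMk ((hsq W).flip.isoPullback ≪≫ (pullbackRestrictIsoRestrict d.toBase W.1)) (Iso.refl _) (by
        simp [← cancel_mono (Scheme.Opens.ι W.1)]))).1 h1
  refine ⟨MorphismProperty.Over.mk ⊤ d.toBase hprop, ⟨?_⟩⟩
  let iU : I := ⟨U, hUB, hU⟩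
  let eU := e iU
  haveI : IsIso (X.homOfLE (inf_le_left : iU.1 ⊓ U ≤ iU.1)) :=
    ⟨X.homOfLE (le_inf le_rfl le_rfl), by simp, by simp⟩
  haveI : IsIso (X.homOfLE (inf_le_right : iU.1 ⊓ U ≤ U)) :=
    ⟨X.homOfLE (le_inf le_rfl le_rfl : U ≤ iU.1 ⊓ U), by simp, by simp⟩
  haveI : IsIso eU.ψ := MorphismProperty.of_isPullback (P := MorphismProperty.isomorphisms Scheme) eU.isPullback_ψ.flip
    (inferInstanceAs (IsIso (X.homOfLE (inf_le_right : iU.1 ⊓ U ≤ U))))
  refine MorphismProperty.Over.isoMk ((hsq iU).flip.isoPullback.symm ≪≫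
    (asIso (pullback.fst eU.E.hom (X.homOfLE (inf_le_left : iU.1 ⊓ U ≤ iU.1)))).symm ≪≫ asIso eU.ψ) ?_
  show ((hsq iU).flip.isoPullback.inv ≫ inv (pullback.fst _ _) ≫ eU.ψ) ≫ Y.hom = pullback.snd d.toBase U.ι
  rw [Category.assoc, Category.assoc, eU.isPullback_ψ.w, ← Iso.cancel_iso_hom_left (hsq iU).flip.isoPullback,
    Iso.hom_inv_id_assoc, (hsq iU).flip.isoPullback_hom_snd, IsIso.inv_comp_eq]
  exact pullback.condition.symm


end extend

theorem restrictComp_fst {A B C : Scheme.{u}} (f : A ⟶ B) (g : B ⟶ C) (h : A ⟶ C) (w : h = f ≫ g) (E : FEt.Cat C) :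
    (restrictComp f g h w E).hom.left ≫ pullback.fst (pullback.snd E.hom g) f ≫ pullback.fst E.hom g =
      pullback.fst E.hom h := by
  simp [restrictComp, MorphismProperty.Over.pullbackComp, FEt.restrict]

/-- A morphism over an open gives a morphism of its part. -/
abbrev loc {E E' : FEt.Cat X} {O : X.Opens} (φ : (FEt.restrict O.ι).obj E ⟶ (FEt.restrict O.ι).obj E') :
    pullback E.hom O.ι ⟶ E'.left := φ.left ≫ pullback.fst E'.hom O.ι

theorem loc_w {E E' : FEt.Cat X} {O : X.Opens} (φ : (FEt.restrict O.ι).obj E ⟶ (FEt.restrict O.ι).obj E') :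
    loc φ ≫ E'.hom = pullback.fst E.hom O.ι ≫ E.hom := by
  have h : φ.left ≫ pullback.snd E'.hom O.ι = pullback.snd E.hom O.ι := CategoryTheory.Over.w φ.hom
  rw [Category.assoc, pullback.condition, pullback.condition, ← Category.assoc, h]

variable (U : X.Opens) (W : X.Opens)

/-- Compatible morphisms over two opens covering the scheme glue. -/
theorem exists_glue (hUW : U ⊔ W = ⊤) {E E' : FEt.Cat X}
    (α : (FEt.restrict W.ι).obj E ⟶ (FEt.restrict W.ι).obj E')
    (β : (FEt.restrict U.ι).obj E ⟶ (FEt.restrict U.ι).obj E')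
    (hαβ : ∀ {Z : Scheme.{u}} (z : Z ⟶ pullback E.hom W.ι) (z' : Z ⟶ pullback E.hom U.ι),
      z ≫ pullback.fst _ _ = z' ≫ pullback.fst _ _ → z ≫ loc α = z' ≫ loc β) :
    ∃ m : E.left ⟶ E'.left, m ≫ E'.hom = E.hom ∧ pullback.fst E.hom W.ι ≫ m = loc α ∧
      pullback.fst E.hom U.ι ≫ m = loc β := by
  let O : Bool → X.Opens := fun b => cond b W U
  have hO : (⨆ b, O b) = ⊤ := top_le_iff.1 (hUW.ge.trans (sup_le (le_iSup O false) (le_iSup O true)))
  let 𝒰 := (X.openCoverOfIsOpenCover O hO).pullback₁ E.hom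
  let a : ∀ b, 𝒰.X b ⟶ E'.left := fun b => match b with
    | true => loc α
    | false => loc β
  have hag : ∀ b c, pullback.fst (𝒰.f b) (𝒰.f c) ≫ a b = pullback.snd _ _ ≫ a c := by
    intro b c
    cases b <;> cases c
    · exact congrArg (· ≫ a false) ((cancel_mono (pullback.fst E.hom U.ι)).1 pullback.condition)
    · exact (hαβ _ _ pullback.condition.symm).symm
    · exact hαβ _ _ pullback.condition
    · exact congrArg (· ≫ a true) ((cancel_mono (pullback.fst E.hom W.ι)).1 pullback.condition)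
  refine ⟨Scheme.Cover.glueMorphisms 𝒰 a hag, ?_, Scheme.Cover.ι_glueMorphisms 𝒰 a hag true,
    Scheme.Cover.ι_glueMorphisms 𝒰 a hag false⟩
  refine Scheme.Cover.hom_ext 𝒰 _ _ fun b => ?_
  rw [← Category.assoc, Scheme.Cover.ι_glueMorphisms]
  cases b
  · exact loc_w β
  · exact loc_w α

/-- Two covers isomorphic over an open are isomorphic if restriction is fully faithful on the rest. -/
theorem nonempty_iso (hUW : U ⊔ W = ⊤)
    (hF : (FEt.restrict (X.homOfLE (inf_le_left : W ⊓ U ≤ W))).Full ∧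
      (FEt.restrict (X.homOfLE (inf_le_left : W ⊓ U ≤ W))).Faithful)
    {E E' : FEt.Cat X} (φ : (FEt.restrict U.ι).obj E ≅ (FEt.restrict U.ι).obj E') : Nonempty (E ≅ E') := by
  haveI := hF.1
  haveI := hF.2
  let a := X.homOfLE (inf_le_left : W ⊓ U ≤ W)
  let b := X.homOfLE (inf_le_right : W ⊓ U ≤ U)
  have hsq : a ≫ W.ι = b ≫ U.ι := by simp [a, b]
  let c : ∀ D : FEt.Cat X, (FEt.restrict a).obj ((FEt.restrict W.ι).obj D) ≅
      (FEt.restrict b).obj ((FEt.restrict U.ι).obj D) := fun D =>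
    (restrictComp a W.ι (W ⊓ U).ι (by simp [a]) D).symm ≪≫ restrictComp b U.ι (W ⊓ U).ι (by simp [b]) D
  let ψ : (FEt.restrict W.ι).obj E ≅ (FEt.restrict W.ι).obj E' :=
    (FEt.restrict a).preimageIso (c E ≪≫ (FEt.restrict b).mapIso φ ≪≫ (c E').symm)
  -- agreement on the overlap
  have hag : ∀ {D D' : FEt.Cat X} (α : (FEt.restrict W.ι).obj D ⟶ (FEt.restrict W.ι).obj D')
      (β : (FEt.restrict U.ι).obj D ⟶ (FEt.restrict U.ι).obj D'),
      (FEt.restrict a).map α ≫ (c D').hom = (c D).hom ≫ (FEt.restrict b).map β →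
      ∀ {Z : Scheme.{u}} (z : Z ⟶ pullback D.hom W.ι) (z' : Z ⟶ pullback D.hom U.ι),
        z ≫ pullback.fst _ _ = z' ≫ pullback.fst _ _ → z ≫ loc α = z' ≫ loc β := by
    intro D D' α β heq Z z z' hz
    let j := (W ⊓ U).ι
    have hw : (z ≫ pullback.snd D.hom W.ι) ≫ W.ι = (z' ≫ pullback.snd D.hom U.ι) ≫ U.ι := by
      rw [Category.assoc, Category.assoc, ← pullback.condition, ← pullback.condition, reassoc_of% hz]
    let t : Z ⟶ (W ⊓ U : X.Opens).toScheme := IsOpenImmersion.lift j ((z ≫ pullback.snd D.hom W.ι) ≫ W.ι) (by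
      rintro _ ⟨q, rfl⟩
      rw [Scheme.Opens.range_ι]
      exact ⟨((z ≫ pullback.snd D.hom W.ι) q).2, by rw [hw]; exact ((z' ≫ pullback.snd D.hom U.ι) q).2⟩)
    have hta : t ≫ a = z ≫ pullback.snd D.hom W.ι := by
      rw [← cancel_mono W.ι, Category.assoc, Scheme.homOfLE_ι]
      exact IsOpenImmersion.lift_fac _ _ _
    have htb : t ≫ b = z' ≫ pullback.snd D.hom U.ι := by
      rw [← cancel_mono U.ι, Category.assoc, Scheme.homOfLE_ι, ← hw]
      exact IsOpenImmersion.lift_fac _ _ _
    let r : Z ⟶ pullback D.hom j := pullback.lift (z ≫ pullback.fst _ _) t (by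
      rw [Category.assoc, pullback.condition, ← Category.assoc]
      exact (IsOpenImmersion.lift_fac _ _ _).symm)
    let za : Z ⟶ pullback (pullback.snd D.hom W.ι) a := pullback.lift z t hta.symm
    let zb : Z ⟶ pullback (pullback.snd D.hom U.ι) b := pullback.lift z' t htb.symm
    have hsnd : ∀ {A B C : Scheme.{u}} (f : A ⟶ B) (g : B ⟶ C) (h : A ⟶ C) (w : h = f ≫ g) (D : FEt.Cat C),
        (restrictComp f g h w D).hom.left ≫ pullback.snd (pullback.snd D.hom g) f = pullback.snd D.hom h :=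
      fun f g h w D => CategoryTheory.Over.w (restrictComp f g h w D).hom.hom
    let ρa : pullback D.hom j ⟶ pullback (pullback.snd D.hom W.ι) a := (restrictComp a W.ι j (by simp [a, j]) D).hom.left
    let ρb : pullback D.hom j ⟶ pullback (pullback.snd D.hom U.ι) b := (restrictComp b U.ι j (by simp [b, j]) D).hom.left
    have ha1 : ρa ≫ pullback.fst _ a ≫ pullback.fst D.hom W.ι = pullback.fst D.hom j := restrictComp_fst a W.ι j (by simp [a, j]) D
    have hb1 : ρb ≫ pullback.fst _ b ≫ pullback.fst D.hom U.ι = pullback.fst D.hom j := restrictComp_fst b U.ι j (by simp [b, j]) D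
    have ha2 : ρa ≫ pullback.snd _ a = pullback.snd D.hom j := hsnd a W.ι j (by simp [a, j]) D
    have hb2 : ρb ≫ pullback.snd _ b = pullback.snd D.hom j := hsnd b U.ι j (by simp [b, j]) D
    have hza : r ≫ ρa = za := by
      refine pullback.hom_ext (pullback.hom_ext ?_ ?_) ?_
      · simp only [Category.assoc]
        rw [ha1, pullback.lift_fst]
        simp [za, hta]
      · simp only [Category.assoc]
        rw [pullback.condition, reassoc_of% ha2, pullback.lift_snd_assoc, hta]
        simp [za, hta]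
      · rw [Category.assoc, ha2, pullback.lift_snd, pullback.lift_snd]
    have hzb : r ≫ ρb = zb := by
      refine pullback.hom_ext (pullback.hom_ext ?_ ?_) ?_
      · simp only [Category.assoc]
        rw [hb1, pullback.lift_fst, hz]
        simp [zb, htb]
      · simp only [Category.assoc]
        rw [pullback.condition, reassoc_of% hb2, pullback.lift_snd_assoc, htb]
        simp [zb, htb]
      · rw [Category.assoc, hb2, pullback.lift_snd, pullback.lift_snd]
    have hρ : ρa ≫ (c D).hom.left = ρb := by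
      show ((restrictComp a W.ι j _ D).hom ≫ (restrictComp a W.ι j _ D).inv ≫ (restrictComp b U.ι j _ D).hom).left = _
      rw [Iso.hom_inv_id_assoc]
    have hc : za ≫ (c D).hom.left = zb := by
      rw [← hza, ← hzb, Category.assoc]
      exact congrArg (r ≫ ·) hρ
    have hc' : (c D').hom.left ≫ pullback.fst (pullback.snd D'.hom U.ι) b ≫ pullback.fst D'.hom U.ι =
        pullback.fst (pullback.snd D'.hom W.ι) a ≫ pullback.fst D'.hom W.ι := by
      show ((restrictComp a W.ι j _ D').inv.left ≫ (restrictComp b U.ι j _ D').hom.left) ≫ _ = _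
      rw [Category.assoc, restrictComp_fst, ← restrictComp_fst a W.ι j (by simp [a, j]) D']
      have hh : (restrictComp a W.ι j (by simp [a, j]) D').inv.left ≫ (restrictComp a W.ι j (by simp [a, j]) D').hom.left = 𝟙 _ := by
        show ((restrictComp a W.ι j _ D').inv ≫ (restrictComp a W.ι j _ D').hom).left = _
        rw [Iso.inv_hom_id]
        rfl
      exact (Category.assoc _ _ _).symm.trans ((congrArg (· ≫ _) hh).trans (Category.id_comp _))
    let μ : pullback (pullback.snd D.hom W.ι) a ⟶ pullback (pullback.snd D'.hom W.ι) a := ((FEt.restrict a).map α).left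
    let ν : pullback (pullback.snd D.hom U.ι) b ⟶ pullback (pullback.snd D'.hom U.ι) b := ((FEt.restrict b).map β).left
    have hμ : μ ≫ pullback.fst _ a = pullback.fst _ a ≫ α.left := by
      simp only [μ, FEt.restrict, MorphismProperty.Over.pullback_map_left]
      exact pullback.lift_fst _ _ _
    have hν : ν ≫ pullback.fst _ b = pullback.fst _ b ≫ β.left := by
      simp only [ν, FEt.restrict, MorphismProperty.Over.pullback_map_left]
      exact pullback.lift_fst _ _ _
    let c₁ : pullback (pullback.snd D.hom W.ι) a ⟶ pullback (pullback.snd D.hom U.ι) b := (c D).hom.left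
    let c₂ : pullback (pullback.snd D'.hom W.ι) a ⟶ pullback (pullback.snd D'.hom U.ι) b := (c D').hom.left
    have h3 : μ ≫ c₂ = c₁ ≫ ν := congrArg (fun k => k.left) heq
    calc z ≫ loc α = (za ≫ pullback.fst _ a) ≫ loc α := by rw [pullback.lift_fst]
      _ = za ≫ μ ≫ c₂ ≫ pullback.fst _ b ≫ pullback.fst D'.hom U.ι := by
        rw [hc', reassoc_of% hμ, Category.assoc]
      _ = (za ≫ c₁) ≫ ν ≫ pullback.fst _ b ≫ pullback.fst D'.hom U.ι := by
        rw [reassoc_of% h3, Category.assoc]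
      _ = (zb ≫ pullback.fst _ b) ≫ loc β := by
        rw [reassoc_of% hν, show za ≫ c₁ = zb from hc, Category.assoc]
      _ = z' ≫ loc β := by rw [pullback.lift_fst]
  have h1 : (FEt.restrict a).map ψ.hom ≫ (c E').hom = (c E).hom ≫ (FEt.restrict b).map φ.hom := by
    simp [ψ, Functor.preimageIso]
  have h2 : (FEt.restrict a).map ψ.inv ≫ (c E).hom = (c E').hom ≫ (FEt.restrict b).map φ.inv := by
    simp [ψ, Functor.preimageIso]
  obtain ⟨m, hm, hmW, hmU⟩ := exists_glue U W hUW ψ.hom φ.hom (hag _ _ h1)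
  obtain ⟨m', hm', hmW', hmU'⟩ := exists_glue U W hUW ψ.inv φ.inv (hag _ _ h2)
  have key : ∀ {D D' : FEt.Cat X} (m : D.left ⟶ D'.left) (m' : D'.left ⟶ D.left) (_ : m ≫ D'.hom = D.hom)
      (_ : m' ≫ D.hom = D'.hom) {O : X.Opens} (α : (FEt.restrict O.ι).obj D ≅ (FEt.restrict O.ι).obj D')
      (_ : pullback.fst D.hom O.ι ≫ m = loc α.hom) (_ : pullback.fst D'.hom O.ι ≫ m' = loc α.inv),
      pullback.fst D.hom O.ι ≫ m ≫ m' = pullback.fst D.hom O.ι := by
    intro D D' m m' _ _ O α h h'
    rw [← Category.assoc, h, Category.assoc, h']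
    show α.hom.left ≫ α.inv.left ≫ _ = _
    rw [← Category.assoc, show α.hom.left ≫ α.inv.left = (α.hom ≫ α.inv).left from rfl, α.hom_inv_id]
    exact Category.id_comp _
  have hcov : ∀ {D : FEt.Cat X} (g g' : D.left ⟶ D.left), pullback.fst D.hom W.ι ≫ g = pullback.fst D.hom W.ι ≫ g' →
      pullback.fst D.hom U.ι ≫ g = pullback.fst D.hom U.ι ≫ g' → g = g' := by
    intro D g g' hW hU
    refine Scheme.Cover.hom_ext ((X.openCoverOfIsOpenCover (fun b : Bool => cond b W U)
      (top_le_iff.1 (hUW.ge.trans (sup_le (le_iSup (fun b : Bool => cond b W U) false)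
        (le_iSup (fun b : Bool => cond b W U) true))))).pullback₁ D.hom) _ _ fun b => ?_
    cases b
    · exact hU
    · exact hW
  refine ⟨MorphismProperty.Over.isoMk ⟨m, m', hcov _ _ ?_ ?_, hcov _ _ ?_ ?_⟩ hm⟩
  · exact (key m m' hm hm' ψ hmW hmW').trans (Category.comp_id _).symm
  · exact (key m m' hm hm' φ hmU hmU').trans (Category.comp_id _).symm
  · exact (key m' m hm' hm ψ.symm hmW' hmW).trans (Category.comp_id _).symm
  · exact (key m' m hm' hm φ.symm hmU' hmU).trans (Category.comp_id _).symm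

end Groth.Agent.RelChart

end
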