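import Groth.Agent.RGLib.SmoothSubChart
import Groth.Agent.S2768
import Mathlib.AlgebraicGeometry.Morphisms.ClosedImmersion

/-!
# Coordinates along a smooth pair of codimension one cut out by one equation
-/

set_option autoImplicit false
attribute [-instance] CategoryTheory.catToReflQuiver
set_option linter.style.haveILetI false
set_option backward.isDefEq.respectTransparency false
set_option backward.isDefEq.respectTransparency.types false

universe u

open CategoryTheory CategoryTheory.Limits AlgebraicGeometry TensorProduct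

noncomputable section

namespace Groth.Agent.RelChart

open Groth.Agent

theorem ker_app_eq_span {X Y : Scheme.{u}} (i : Y ⟶ X) [IsClosedImmersion i] (t : Γ(X, ⊤))
    (ht : i.ker = Scheme.IdealSheafData.ofIdealTop (Ideal.span {t})) {U : X.Opens} (hU : IsAffineOpen U) :
    RingHom.ker (i.app U).hom = Ideal.span {X.presheaf.map (homOfLE le_top).op t} := by
  have h := congrArg (fun I => I.ideal ⟨U, hU⟩) ht
  simp only [Scheme.Hom.ker_apply] at h
  refine h.trans ?_
  show (Ideal.span {t}).map (X.presheaf.map (homOfLE le_top).op).hom = _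
  rw [Ideal.map_span, Set.image_singleton]

/-- At a point of the divisor the equation does not vanish in the local ring. -/
theorem natCard_ne_zero_of_chart {X Y S : Scheme.{u}} (f : X ⟶ S) (h : Y ⟶ S) (i : Y ⟶ X) [IsClosedImmersion i]
    (w : i ≫ f = h) (m : ℕ) [SmoothOfRelativeDimension (m + 1) f] [SmoothOfRelativeDimension m h]
    (t : Γ(X, ⊤)) (ht : i.ker = Scheme.IdealSheafData.ofIdealTop (Ideal.span {t})) {U : X.Opens}
    (hU : IsAffineOpen U) (y : Y) (hy : i y ∈ U) : X.presheaf.map (homOfLE (le_top : U ≤ ⊤)).op t ≠ 0 := by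
  intro h0
  have hker : RingHom.ker (i.app U).hom = ⊥ := by rw [ker_app_eq_span i t ht hU, h0, Ideal.span_singleton_eq_bot]
  haveI : IsAffine U.toScheme := hU
  haveI : IsClosedImmersion (i ∣_ U) := inferInstance
  have hinj : Function.Injective (i ∣_ U).appTop := by
    rw [morphismRestrict_appTop]
    have h1 : Function.Injective (i.app U).hom := (RingHom.injective_iff_ker_eq_bot _).2 hker
    have he : U.ι ''ᵁ ⊤ = U := U.ι_image_top
    have h2 : Function.Injective (i.app (U.ι ''ᵁ ⊤)).hom := by rw [he]; exact h1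
    intro a b hab
    simp only [CommRingCat.comp_apply] at hab
    exact h2 ((ConcreteCategory.bijective_of_isIso _).1 hab)
  haveI : IsIso (i ∣_ U) := IsClosedImmersion.isIso_iff_ker_eq_bot.2 (Scheme.IdealSheafData.ext_of_isAffine
    (by simpa [(i ∣_ U).ker_apply ⟨⊤, isAffineOpen_top _⟩, ← RingHom.injective_iff_ker_eq_bot] using hinj))
  haveI : SmoothOfRelativeDimension (m + 1) (U.ι ≫ f) := by
    simpa using (inferInstance : SmoothOfRelativeDimension (0 + (m + 1)) (U.ι ≫ f))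
  haveI : SmoothOfRelativeDimension m (U.ι ≫ f) := by
    have he : U.ι ≫ f = (inv (i ∣_ U) ≫ (i ⁻¹ᵁ U).ι) ≫ h := by
      rw [← w, Category.assoc, IsIso.eq_inv_comp, morphismRestrict_ι_assoc]
    rw [he]
    simpa using (inferInstance : SmoothOfRelativeDimension (0 + m) ((inv (i ∣_ U) ≫ (i ⁻¹ᵁ U).ι) ≫ h))
  have h1 := S2768.result (m + 1) (U.ι ≫ f) ⟨i y, hy⟩
  rw [S2768.result m (U.ι ≫ f) ⟨i y, hy⟩] at h1
  exact absurd (WithBot.coe_inj.1 h1) (by norm_cast; omega)

/-- Coordinates near a point of the divisor, one of them its equation. -/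
theorem exists_chart {S X Y : Scheme.{u}} (f : X ⟶ S) (h : Y ⟶ S) (i : Y ⟶ X) [IsClosedImmersion i] (w : i ≫ f = h)
    (m : ℕ) [SmoothOfRelativeDimension (m + 1) f] [SmoothOfRelativeDimension m h]
    (t : Γ(X, ⊤)) (ht : i.ker = Scheme.IdealSheafData.ofIdealTop (Ideal.span {t})) (y : Y)
    {S₁ : S.Opens} (hS₁ : f (i y) ∈ S₁) :
    ∃ (S0 : S.Opens) (_ : IsAffineOpen S0) (_ : S0 ≤ S₁) (U : X.Opens) (_ : IsAffineOpen U) (_ : i y ∈ U)
      (eU : U ≤ f ⁻¹ᵁ S0) (σ : Type u) (_ : Finite σ) (j : σ) (ψ : MvPolynomial σ Γ(S, S0) →+* Γ(X, U)),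
      ψ.Etale ∧ ψ.comp MvPolynomial.C = (f.appLE S0 U eU).hom ∧
      ψ (MvPolynomial.X j) = X.presheaf.map (homOfLE le_top).op t := by
  haveI : Smooth f := SmoothOfRelativeDimension.smooth (n := m + 1) f
  haveI : Smooth h := SmoothOfRelativeDimension.smooth (n := m) h
  subst w
  obtain ⟨S0, hS0, hyS0, hS01⟩ := exists_isAffineOpen_mem_and_subset (x := f (i y)) (U := S₁) hS₁
  obtain ⟨V, hV, hyV, e⟩ := exists_isAffineOpen_mem_and_subset (x := i y) (U := f ⁻¹ᵁ S0) hyS0
  replace e : V ≤ f ⁻¹ᵁ S0 := e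
  have hW : IsAffineOpen (i ⁻¹ᵁ V) := hV.preimage i
  have e' : i ⁻¹ᵁ V ≤ (i ≫ f) ⁻¹ᵁ S0 := fun z hz => e hz
  have hsm : (f.appLE S0 V e).hom.Smooth := HasRingHomProperty.appLE @Smooth f inferInstance ⟨S0, hS0⟩ ⟨V, hV⟩ e
  have hsmY : ((i ≫ f).appLE S0 (i ⁻¹ᵁ V) e').hom.Smooth :=
    HasRingHomProperty.appLE @Smooth (i ≫ f) inferInstance ⟨S0, hS0⟩ ⟨i ⁻¹ᵁ V, hW⟩ e'
  have hfac : (i ≫ f).appLE S0 (i ⁻¹ᵁ V) e' = f.appLE S0 V e ≫ i.app V := by
    rw [Scheme.Hom.app_eq_appLE, Scheme.Hom.appLE_comp_appLE]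
  rw [hfac] at hsmY
  algebraize [(f.appLE S0 V e).hom]
  haveI : Algebra.FinitePresentation Γ(S, S0) Γ(X, V) := Algebra.Smooth.finitePresentation
  letI algC : Algebra Γ(S, S0) Γ(Y, i ⁻¹ᵁ V) := ((i.app V).hom.comp (f.appLE S0 V e).hom).toAlgebra
  haveI smC : Algebra.Smooth Γ(S, S0) Γ(Y, i ⁻¹ᵁ V) := hsmY
  let φ : Γ(X, V) →ₐ[Γ(S, S0)] Γ(Y, i ⁻¹ᵁ V) := { (i.app V).hom with commutes' := fun _ => rfl }
  have hφ : Function.Surjective φ := i.app_surjective V hV
  let J : Ideal Γ(X, V) := RingHom.ker φ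
  let τ : Γ(X, V) := X.presheaf.map (homOfLE le_top).op t
  have hJτ : J = Ideal.span {τ} := ker_app_eq_span i t ht hV
  have hJ : J.FG := Algebra.FinitePresentation.ker_fG_of_surjective φ hφ
  let eC : (Γ(X, V) ⧸ J) ≃ₐ[Γ(S, S0)] Γ(Y, i ⁻¹ᵁ V) := Ideal.quotientKerAlgEquivOfSurjective hφ
  haveI : Algebra.Smooth Γ(S, S0) (Γ(X, V) ⧸ J) := Algebra.Smooth.of_equiv eC.symm
  let qY := (hW.primeIdealOf ⟨y, hyV⟩).asIdeal
  let q := (hV.primeIdealOf ⟨i y, hyV⟩).asIdeal
  have hq : qY.comap (i.app V).hom = q := by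
    rw [Scheme.Hom.app_eq_appLE]
    exact congrArg PrimeSpectrum.asIdeal (IsAffineOpen.comap_primeIdealOf_appLE V hV (i ⁻¹ᵁ V) hW le_rfl hyV)
  let Q : Ideal (Γ(X, V) ⧸ J) := qY.comap eC.toRingEquiv.toRingHom
  have hQ : Q.comap (Ideal.Quotient.mk J) = q := by
    rw [Ideal.comap_comap, ← hq]
    rfl
  have hJq : J ≤ q := fun a ha => by
    rw [← hq, Ideal.mem_comap, show (i.app V).hom a = 0 from ha]
    exact zero_mem _
  haveI := RGLib.SmoothSubChart.isSmoothAt_of_smooth Γ(S, S0) Γ(X, V) q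
  haveI := RGLib.SmoothSubChart.isSmoothAt_of_smooth Γ(S, S0) (Γ(X, V) ⧸ J) Q
  have hmem : ∀ a ∉ q, i y ∈ X.basicOpen a := fun a ha => by
    have h1 : hV.primeIdealOf ⟨i y, hyV⟩ ∈ PrimeSpectrum.basicOpen a := ha
    rw [← hV.fromSpec_preimage_basicOpen] at h1
    rwa [Scheme.Hom.mem_preimage, hV.fromSpec_primeIdealOf] at h1
  -- one generator, and it is needed
  have hrank : (1 : ℕ) = Module.finrank q.ResidueField (q.ResidueField ⊗[Γ(X, V)] J) := by
    let v : q.ResidueField ⊗[Γ(X, V)] J := 1 ⊗ₜ ⟨τ, hJτ.ge (Ideal.mem_span_singleton_self τ)⟩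
    refine le_antisymm (Nat.one_le_iff_ne_zero.2 fun h0 => ?_) (finrank_le_one v fun z => ?_)
    · obtain ⟨g, -, hgen⟩ := RGLib.SmoothSubChart.exists_gens J hJ q
      have h1 : algebraMap Γ(X, V) (Localization.AtPrime q) τ = 0 := by
        have h2 : algebraMap Γ(X, V) (Localization.AtPrime q) τ ∈ J.map (algebraMap _ (Localization.AtPrime q)) :=
          Ideal.mem_map_of_mem _ (hJτ.ge (Ideal.mem_span_singleton_self τ))
        haveI : IsEmpty (Fin (Module.finrank q.ResidueField (q.ResidueField ⊗[Γ(X, V)] J))) := by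
          rw [h0]; infer_instance
        rwa [hgen, Set.range_eq_empty, Ideal.span_empty, Ideal.mem_bot] at h2
      obtain ⟨⟨s, hs⟩, hst⟩ := (IsLocalization.map_eq_zero_iff q.primeCompl _ τ).1 h1
      refine natCard_ne_zero_of_chart f (i ≫ f) i rfl m t ht (hV.basicOpen s) y (hmem s hs) ?_
      rw [show X.presheaf.map (homOfLE (le_top : X.basicOpen s ≤ ⊤)).op t =
        X.presheaf.map (homOfLE (X.basicOpen_le s)).op τ from by
          rw [← CommRingCat.comp_apply, ← Functor.map_comp]; rfl]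
      refine (X.toRingedSpace.isUnit_res_basicOpen s).mul_right_eq_zero.1 ?_
      exact (map_mul _ _ _).symm.trans ((congrArg _ hst).trans (map_zero _))
    · induction z with
      | zero => exact ⟨0, zero_smul _ _⟩
      | tmul c x =>
        obtain ⟨r, hr⟩ := Ideal.mem_span_singleton'.1 (hJτ.le x.2)
        refine ⟨c * algebraMap _ _ r, ?_⟩
        have hx : x = r • (⟨τ, hJτ.ge (Ideal.mem_span_singleton_self τ)⟩ : J) := Subtype.ext hr.symm
        rw [hx, TensorProduct.tmul_smul, TensorProduct.smul_tmul', TensorProduct.smul_tmul', smul_eq_mul, mul_one,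
          Algebra.smul_def, mul_comm c]
      | add a b ha hb =>
        obtain ⟨c, rfl⟩ := ha
        obtain ⟨d, rfl⟩ := hb
        exact ⟨c + d, add_smul _ _ _⟩
  have hgen : J.map (algebraMap _ (Localization.AtPrime q)) =
      Ideal.span (Set.range fun _ : Fin 1 => algebraMap Γ(X, V) (Localization.AtPrime q) τ) := by
    rw [hJτ, Ideal.map_span, Set.image_singleton, Set.range_const]
  obtain ⟨a, haq, m', g', het, -⟩ := RGLib.EtaleCoord.exists_coords (A := Γ(S, S0)) J hJ q hJq Q hQ 1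
    (fun _ => τ) (fun _ => hJτ.ge (Ideal.mem_span_singleton_self τ)) hgen hrank
  let U := X.basicOpen a
  have hU : IsAffineOpen U := hV.basicOpen a
  have hUV : U ≤ V := X.basicOpen_le a
  have eU : U ≤ f ⁻¹ᵁ S0 := hUV.trans e
  let res : Γ(X, V) ⟶ Γ(X, U) := X.presheaf.map (homOfLE hUV).op
  letI : Algebra Γ(X, V) Γ(X, U) := res.hom.toAlgebra
  haveI : IsLocalization.Away a Γ(X, U) := hV.isLocalization_basicOpen a
  let eL : Localization.Away a ≃ₐ[Γ(X, V)] Γ(X, U) := IsLocalization.algEquiv (Submonoid.powers a) _ _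
  let σe : ULift.{u} (Fin 1 ⊕ Fin m') ≃ Fin 1 ⊕ Fin m' := Equiv.ulift
  let α : MvPolynomial (Fin 1 ⊕ Fin m') Γ(S, S0) →+* Localization.Away a :=
    (MvPolynomial.aeval (Sum.elim (fun _ => algebraMap Γ(X, V) (Localization.Away a) τ) g')).toRingHom
  let ψ : MvPolynomial (ULift.{u} (Fin 1 ⊕ Fin m')) Γ(S, S0) →+* Γ(X, U) :=
    eL.toRingEquiv.toRingHom.comp (α.comp (MvPolynomial.renameEquiv Γ(S, S0) σe).toRingEquiv.toRingHom)
  refine ⟨S0, hS0, hS01, U, hU, hmem a haq, eU, ULift.{u} (Fin 1 ⊕ Fin m'), inferInstance, ⟨Sum.inl 0⟩, ψ,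
    RingHom.Etale.respectsIso.1 _ eL.toRingEquiv
      (RingHom.Etale.respectsIso.2 α (MvPolynomial.renameEquiv Γ(S, S0) σe).toRingEquiv het), ?_, ?_⟩
  · ext c
    have h1 : α (MvPolynomial.C c) = algebraMap Γ(X, V) (Localization.Away a) ((f.appLE S0 V e).hom c) := by
      show MvPolynomial.aeval _ (MvPolynomial.C c) = _
      rw [MvPolynomial.aeval_C, IsScalarTower.algebraMap_apply Γ(S, S0) Γ(X, V) (Localization.Away a)]
      rfl
    show eL (α ((MvPolynomial.renameEquiv Γ(S, S0) σe) (MvPolynomial.C c))) = _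
    rw [show (MvPolynomial.renameEquiv Γ(S, S0) σe) (MvPolynomial.C c) = MvPolynomial.C c from
      MvPolynomial.rename_C _ c, h1, AlgEquiv.commutes]
    exact ConcreteCategory.congr_hom (f.appLE_map e (homOfLE hUV).op) c
  · show eL (α ((MvPolynomial.renameEquiv Γ(S, S0) σe) (MvPolynomial.X ⟨Sum.inl 0⟩))) = _
    rw [show (MvPolynomial.renameEquiv Γ(S, S0) σe) (MvPolynomial.X ⟨Sum.inl 0⟩) =
      MvPolynomial.X (Sum.inl 0) from MvPolynomial.rename_X _ _,
      show α (MvPolynomial.X (Sum.inl 0)) = algebraMap Γ(X, V) (Localization.Away a) τ from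
        MvPolynomial.aeval_X _ _, AlgEquiv.commutes]
    show res τ = _
    rw [← CommRingCat.comp_apply, ← Functor.map_comp]
    rfl

end Groth.Agent.RelChart

end
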