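import Groth.Agent.RelChart.Field
import Groth.Agent.RelDvr.Principal

/-!
# Principal covers of order invertible in the residue fields are tame
-/

set_option autoImplicit false
attribute [-instance] CategoryTheory.catToReflQuiver
set_option linter.style.haveILetI false
set_option backward.isDefEq.respectTransparency false
set_option backward.isDefEq.respectTransparency.types false

universe u v

open CategoryTheory CategoryTheory.Limits AlgebraicGeometry IsLocalRing

noncomputable section

namespace Groth.Agent.RelChart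

open Groth.Agent Groth.Agent.RelPure Groth.Agent.RelDvr

/-- Simple transitivity on the geometric fibres. -/
def Transitive {X : Scheme.{u}} {G : Type v} [Group G] (V : FEt.Cat X) (ρ : G →* Aut V) : Prop :=
  ∀ (Ω : Type u) [Field Ω] [IsAlgClosed Ω] (ξ : Spec (CommRingCat.of Ω) ⟶ X) (s t : FEt.fiberObj ξ V),
    ∃! g : G, (FEt.fiber ξ).map (ρ g).hom s = t

/-- The pullback of an action. -/
def pullAct {X X' : Scheme.{u}} (j : X' ⟶ X) {G : Type v} [Group G] {V : FEt.Cat X} (ρ : G →* Aut V) :
    G →* Aut ((FEt.restrict j).obj V) :=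
  ((FEt.restrict j).mapAut V).comp ρ

theorem transitive_restrict {X X' : Scheme.{u}} (j : X' ⟶ X) {G : Type v} [Group G] {V : FEt.Cat X}
    {ρ : G →* Aut V} (h : Transitive V ρ) : Transitive ((FEt.restrict j).obj V) (pullAct j ρ) := by
  intro Ω _ _ ξ s t
  let dn : FEt.fiberObj ξ ((FEt.restrict j).obj V) → FEt.fiberObj (ξ ≫ j) V := fun s =>
    ⟨s.1 ≫ pullback.fst V.hom j, by
      rw [Category.assoc, pullback.condition, ← Category.assoc]
      exact congrArg (· ≫ j) s.2⟩
  have key : ∀ g s, dn ((FEt.fiber ξ).map (pullAct j ρ g).hom s) = (FEt.fiber (ξ ≫ j)).map (ρ g).hom (dn s) := by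
    intro g s
    refine Subtype.ext ?_
    show (s.1 ≫ ((FEt.restrict j).map (ρ g).hom).left) ≫ pullback.fst V.hom j = (s.1 ≫ pullback.fst V.hom j) ≫ (ρ g).hom.left
    rw [Category.assoc, Category.assoc]
    congr 1
    simp only [FEt.restrict, MorphismProperty.Over.pullback_map_left]
    exact pullback.lift_fst _ _ _
  have hinj : Function.Injective dn := fun a b hab => by
    refine Subtype.ext (pullback.hom_ext (congrArg Subtype.val hab) ?_)
    exact a.2.trans b.2.symm
  obtain ⟨g, hg, huniq⟩ := h Ω (ξ ≫ j) (dn s) (dn t)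
  exact ⟨g, hinj ((key g s).trans hg), fun g' hg' => huniq g' ((key g' s).symm.trans (congrArg dn hg'))⟩

/-- A principal cover is tame, with indices dividing any multiple of its order invertible in the residue field. -/
theorem tameAt_of_transitive {X : Scheme.{u}} {k : Type u} [Field k] (f : X ⟶ Spec (CommRingCat.of k)) (U : X.Opens)
    (hU : ∀ η, IsFibMax f η → η ∈ U) (V : FEt.Cat (U : Scheme.{u})) {G : Type v} [Group G] [Finite G]
    (ρ : G →* Aut V) (hρ : Transitive V ρ) (y : X) [IsDomain (X.presheaf.stalk y)]
    [IsDiscreteValuationRing (X.presheaf.stalk y)] (N : ℕ) (hN : Nat.card G ∣ N)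
    (hunit : (N : X.residueField y) ≠ 0) : TameAt f U hU V y N := by
  intro L _ _ _ _ φ hφ hsurj
  exact tameDvd_of_principal (A := X.presheaf.stalk y) (K := FractionRing (X.presheaf.stalk y))
    ((FEt.restrict (genPt f U hU y)).obj V) (pullAct (genPt f U hU y) ρ)
    (transitive_restrict (genPt f U hU y) hρ) N hN hunit L φ hφ hsurj

end Groth.Agent.RelChart

end
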