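import Groth.Agent.RelChart.Alg
import Mathlib.AlgebraicGeometry.Pullbacks

/-!
# The scheme of roots on a chart
-/

set_option autoImplicit false
attribute [-instance] CategoryTheory.catToReflQuiver
set_option linter.style.haveILetI false
set_option backward.isDefEq.respectTransparency false
set_option backward.isDefEq.respectTransparency.types false

universe u

open CategoryTheory CategoryTheory.Limits AlgebraicGeometry

noncomputable section

namespace Groth.Agent.RelChart

open Groth.Agent.RGLib

/-- Adjoining a root is a base change of `T ↦ T ^ n`. -/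
theorem isPushout_expand {A G : Type u} [CommRing A] [CommRing G] (ρ : Polynomial A →+* G) (n : ℕ)
    (a : Fin 1 → G) (ha : a 0 = ρ Polynomial.X) :
    IsPushout (CommRingCat.ofHom ρ) (CommRingCat.ofHom (Polynomial.expand A n).toRingHom)
      (CommRingCat.ofHom (algebraMap G (Kummer.K G a (fun _ => n))))
      (CommRingCat.ofHom (Polynomial.eval₂RingHom
        (((algebraMap G (Kummer.K G a (fun _ => n))).comp ρ).comp Polynomial.C) (Kummer.T a (fun _ => n) 0))) := by
  let K := Kummer.K G a (fun _ => n)
  let T : K := Kummer.T a (fun _ => n) 0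
  let β : Polynomial A →+* K := Polynomial.eval₂RingHom (((algebraMap G K).comp ρ).comp Polynomial.C) T
  have hw : CommRingCat.ofHom ρ ≫ CommRingCat.ofHom (algebraMap G K) =
      CommRingCat.ofHom (Polynomial.expand A n).toRingHom ≫ CommRingCat.ofHom β := by
    refine CommRingCat.hom_ext (Polynomial.ringHom_ext (fun c => ?_) ?_)
    · simp [β]
    · show algebraMap G K (ρ Polynomial.X) = β (Polynomial.expand A n Polynomial.X)
      rw [Polynomial.expand_X, map_pow]
      simp only [β, Polynomial.coe_eval₂RingHom, Polynomial.eval₂_X, T]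
      rw [Kummer.T_pow, ha]
  have hc : ∀ s : PushoutCocone (CommRingCat.ofHom ρ) (CommRingCat.ofHom (Polynomial.expand A n).toRingHom),
      ∀ p, s.inl.hom (ρ p) = s.inr.hom (Polynomial.expand A n p) := fun s p =>
    RingHom.congr_fun (congrArg CommRingCat.Hom.hom s.condition) p
  have hex : ∀ s : PushoutCocone (CommRingCat.ofHom ρ) (CommRingCat.ofHom (Polynomial.expand A n).toRingHom),
      ∃ g : K →+* s.pt, (∀ x, g (algebraMap G K x) = s.inl.hom x) ∧ g T = s.inr.hom Polynomial.X := fun s => by
    letI : Algebra G s.pt := s.inl.hom.toAlgebra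
    obtain ⟨F, hF⟩ := (Kummer.existsUnique_hom a (fun _ => n) (B := s.pt)
      (fun _ => s.inr.hom Polynomial.X) fun i => by
        rw [Fin.fin_one_eq_zero i, ← map_pow, ha]
        show _ = s.inl.hom (ρ Polynomial.X)
        rw [hc, Polynomial.expand_X]).exists
    exact ⟨F.toRingHom, F.commutes, hF 0⟩
  choose g hg hgT using hex
  have hgβ : ∀ s p, g s (β p) = s.inr.hom p := fun s => by
    refine RingHom.congr_fun (f := (g s).comp β) (Polynomial.ringHom_ext (fun c => ?_) ?_)
    · simp only [RingHom.comp_apply, β, Polynomial.coe_eval₂RingHom, Polynomial.eval₂_C]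
      rw [hg, hc, Polynomial.expand_C]
    · simp only [RingHom.comp_apply, β, Polynomial.coe_eval₂RingHom, Polynomial.eval₂_X]
      exact hgT s
  refine ⟨⟨hw⟩, ⟨PushoutCocone.IsColimit.mk _ (fun s => CommRingCat.ofHom (g s))
    (fun s => CommRingCat.hom_ext (RingHom.ext (hg s))) (fun s => CommRingCat.hom_ext (RingHom.ext (hgβ s)))
    fun s m h1 h2 => CommRingCat.hom_ext (kummer_ringHom_ext (fun _ => n) (fun x => ?_) fun i => ?_)⟩⟩
  · exact (RingHom.congr_fun (congrArg CommRingCat.Hom.hom h1) x).trans (hg s x).symm
  · rw [Fin.fin_one_eq_zero i]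
    have hT : T = β Polynomial.X := by simp [β]
    show m.hom T = g s T
    rw [hT, hgβ]
    exact RingHom.congr_fun (congrArg CommRingCat.Hom.hom h2) _

end Groth.Agent.RelChart

end
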