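import Groth.Agent.RelChart.Extend
import Groth.Agent.RelChart.Principal
import Groth.Agent.RelChart.Pair
import Groth.Agent.RelChart.Root
import Groth.Agent.RelChart.Glue
import Groth.Prelude.Def_SGA1t

/-!
# Extension of a principal cover after adjoining a root of the equation
-/

set_option autoImplicit false
attribute [-instance] CategoryTheory.catToReflQuiver
set_option linter.style.haveILetI false
set_option backward.isDefEq.respectTransparency false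
set_option backward.isDefEq.respectTransparency.types false

universe u v

open CategoryTheory CategoryTheory.Limits AlgebraicGeometry TopologicalSpace TensorProduct

noncomputable section

namespace Groth.Agent.RelChart

open Groth.Agent Groth.Agent.RelPure Groth.Agent.RelDvr Groth.Agent.Pi1Ext.Spread Groth.Agent.RGLib

theorem isFibMax_openImmersion {X Z S : Scheme.{u}} (j : Z ⟶ X) [IsOpenImmersion j] (g : X ⟶ S) {z : Z} :
    IsFibMax (j ≫ g) z ↔ IsFibMax g (j z) := by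
  constructor
  · intro h w hw hgw
    obtain ⟨w', rfl⟩ : w ∈ j.opensRange := hw.mem_open j.opensRange.isOpen ⟨z, rfl⟩
    exact congrArg j (h w' (j.isOpenEmbedding.isInducing.specializes_iff.1 hw) hgw)
  · exact fun h w hw hgw => j.isOpenEmbedding.injective (h (j w) (hw.map j.continuous) hgw)

/-- A chart of the scheme of roots. -/
def IsRootChart {X' S : Scheme.{u}} (g : X' ⟶ S) (U' : X'.Opens) (R : X'.Opens) : Prop :=
  Smooth (R.ι ≫ g) ∧ ∀ η ∈ R, IsFibMax g η → η ∈ U'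

theorem isFibMax_mem_of_chart {X' S : Scheme.{u}} {g : X' ⟶ S} {U' : X'.Opens} {Z : Scheme.{u}} (j : Z ⟶ X')
    [IsOpenImmersion j] [Smooth (j ≫ g)] (h : ∀ z, IsFibMax (j ≫ g) z → j z ∈ U') : IsRootChart g U' j.opensRange := by
  refine ⟨?_, fun η hη hmax => ?_⟩
  · have he : j.opensRange.ι ≫ g = j.isoOpensRange.inv ≫ (j ≫ g) := by
      rw [← Category.assoc, Scheme.Hom.isoOpensRange_inv_comp]
    rw [he]
    infer_instance
  · obtain ⟨z, rfl⟩ := hη
    exact h z ((isFibMax_openImmersion j g).2 hmax)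

/-- Restriction along an isomorphism is fully faithful. -/
theorem restrict_ff_of_isIso {A B : Scheme.{u}} (a : A ⟶ B) [IsIso a] :
    (FEt.restrict a).Full ∧ (FEt.restrict a).Faithful := by
  let idIso : ∀ Z : Scheme.{u}, FEt.restrict (𝟙 Z) ≅ 𝟭 (FEt.Cat Z) := fun Z =>
    NatIso.ofComponents restrictId fun {E E'} φ => by
      ext
      simp only [FEt.restrict, MorphismProperty.Comma.comp_left, Functor.id_map,
        MorphismProperty.Over.pullback_map_left]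
      exact pullback.lift_fst _ _ _
  let e₁ : FEt.restrict a ⋙ FEt.restrict (inv a) ≅ 𝟭 (FEt.Cat B) :=
    (MorphismProperty.Over.pullbackComp (inv a) a (𝟙 B) (IsIso.inv_hom_id a).symm).symm ≪≫ idIso B
  let e₂ : FEt.restrict (inv a) ⋙ FEt.restrict a ≅ 𝟭 (FEt.Cat A) :=
    (MorphismProperty.Over.pullbackComp a (inv a) (𝟙 A) (IsIso.hom_inv_id a).symm).symm ≪≫ idIso A
  haveI := (CategoryTheory.Equivalence.mk _ _ e₁.symm e₂).isEquivalence_functor
  exact ⟨inferInstanceAs (CategoryTheory.Equivalence.mk _ _ e₁.symm e₂).functor.Full,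
    inferInstanceAs (CategoryTheory.Equivalence.mk _ _ e₁.symm e₂).functor.Faithful⟩

variable {X S : Scheme.{u}} (f : X ⟶ S) (t : Γ(X, ⊤)) (n : ℕ)

/-- The ring map `T ↦ t`. -/
abbrev tauHom : Polynomial Γ(X, ⊤) →+* Γ(X, ⊤) := (Polynomial.aeval (R := Γ(X, ⊤)) t).toRingHom

/-- The morphism classifying `t`. -/
abbrev tauMap : X ⟶ Spec (CommRingCat.of (Polynomial Γ(X, ⊤))) :=
  X.toSpecΓ ≫ Spec.map (CommRingCat.ofHom (tauHom t))

/-- Raising the coordinate to the power `n`. -/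
abbrev nuMap : Spec (CommRingCat.of (Polynomial Γ(X, ⊤))) ⟶ Spec (CommRingCat.of (Polynomial Γ(X, ⊤))) :=
  Spec.map (CommRingCat.ofHom (Polynomial.expand Γ(X, ⊤) n).toRingHom)

/-- The scheme of roots near a point of the divisor: smooth, with the complement dense in the fibres, and the cover
extends there. -/
theorem exists_root_chart {Gp : Type v} [Group Gp] [Finite Gp] (hn1 : 1 ≤ n) (hcard : Nat.card Gp = n)
    (V : FEt.Cat (X.basicOpen t : Scheme.{u})) (ρ : Gp →* Aut V) (hρ : Transitive V ρ)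
    {S0 : S.Opens} (hS0 : IsAffineOpen S0) {X₀ : X.Opens} (hX₀ : IsAffineOpen X₀) (eU : X₀ ≤ f ⁻¹ᵁ S0)
    (hu : IsUnit ((n : ℕ) : Γ(S, S0))) {σ : Type u} [Finite σ] (jσ : σ) (ψ : MvPolynomial σ Γ(S, S0) →+* Γ(X, X₀))
    (hψ : ψ.Etale) (hC : ψ.comp MvPolynomial.C = (f.appLE S0 X₀ eU).hom)
    (hj : ψ (MvPolynomial.X jσ) = X.presheaf.map (homOfLE le_top).op t) :
    let p : pullback (tauMap t) (nuMap n) ⟶ X := pullback.fst (tauMap t) (nuMap n)
    let U' := p ⁻¹ᵁ X.basicOpen t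
    IsRootChart (p ≫ f) U' (p ⁻¹ᵁ X₀) ∧ ∀ W ≤ p ⁻¹ᵁ X₀,
      Nonempty (ExtGlue.Ext U' ((FEt.restrict (p ∣_ X.basicOpen t)).obj V) W) := by
  intro p U'
  let C := Γ(S, S0)
  let G := Γ(X, X₀)
  letI : Algebra C G := (f.appLE S0 X₀ eU).hom.toAlgebra
  letI : Algebra (MvPolynomial σ C) G := ψ.toAlgebra
  haveI : IsScalarTower C (MvPolynomial σ C) G :=
    IsScalarTower.of_algebraMap_eq fun c => (RingHom.congr_fun hC c).symm
  haveI : Algebra.Etale (MvPolynomial σ C) G := hψ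
  let e : Fin 1 → σ := fun _ => jσ
  let a : Fin 1 → G := aOf (C := C) e
  let τ₀ : G := X.presheaf.map (homOfLE (le_top : X₀ ≤ ⊤)).op t
  have ha : ∀ i, a i = τ₀ := fun _ => hj
  let res : Γ(X, ⊤) →+* G := (X.presheaf.map (homOfLE (le_top : X₀ ≤ ⊤)).op).hom
  let rh : Polynomial Γ(X, ⊤) →+* G := res.comp (tauHom t)
  have ha0 : a 0 = rh Polynomial.X := by
    rw [ha]
    show τ₀ = res (Polynomial.aeval t Polynomial.X)
    rw [Polynomial.aeval_X]
  let K := Kummer.K G a (fun _ => n)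
  let π : Spec (CommRingCat.of K) ⟶ Spec (CommRingCat.of G) := Spec.map (CommRingCat.ofHom (algebraMap G K))
  let β : Spec (CommRingCat.of K) ⟶ Spec (CommRingCat.of (Polynomial Γ(X, ⊤))) :=
    Spec.map (CommRingCat.ofHom (Polynomial.eval₂RingHom (((algebraMap G K).comp rh).comp Polynomial.C)
      (Kummer.T a (fun _ => n) 0)))
  have sq₀ : IsPullback π β (Spec.map (CommRingCat.ofHom rh)) (nuMap n) :=
    isPullback_SpecMap_of_isPushout _ _ _ _ (isPushout_expand rh n a ha0)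
  let ξ : Spec (CommRingCat.of G) ⟶ X := hX₀.fromSpec
  have hξτ : Spec.map (CommRingCat.ofHom rh) = ξ ≫ tauMap t := by
    show _ = hX₀.fromSpec ≫ X.toSpecΓ ≫ _
    rw [IsAffineOpen.fromSpec_toSpecΓ_assoc, ← Spec.map_comp]
    rfl
  rw [hξτ] at sq₀
  let μ : Spec (CommRingCat.of K) ⟶ pullback (tauMap t) (nuMap n) := pullback.lift (π ≫ ξ) β (by
    rw [Category.assoc]; exact sq₀.w)
  have hμp : μ ≫ p = π ≫ ξ := pullback.lift_fst _ _ _
  have sq₁ : IsPullback π μ ξ p := by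
    refine IsPullback.of_bot ?_ hμp.symm (IsPullback.of_hasPullback (tauMap t) (nuMap n))
    rw [pullback.lift_snd]
    exact sq₀
  haveI : IsOpenImmersion ξ := inferInstanceAs (IsOpenImmersion hX₀.fromSpec)
  haveI : IsOpenImmersion μ := MorphismProperty.of_isPullback sq₁ ‹_›
  have hR : μ.opensRange = p ⁻¹ᵁ X₀ := by
    ext z
    constructor
    · rintro ⟨z', rfl⟩
      show (μ ≫ p) z' ∈ X₀
      rw [hμp]
      exact hX₀.range_fromSpec.le ⟨π z', rfl⟩
    · intro hz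
      obtain ⟨z', hz'⟩ := hX₀.range_fromSpec.ge (show p z ∈ (X₀ : Set X) from hz)
      obtain ⟨w, -, hw⟩ := Scheme.Pullback.exists_preimage_pullback z' z hz'
      exact ⟨sq₁.isoPullback.inv w, by rw [← Scheme.Hom.comp_apply, sq₁.isoPullback_inv_snd]; exact hw⟩
  -- the chart
  let fG := Spec.map (CommRingCat.ofHom (algebraMap C G))
  have hξf : ξ ≫ f = fG ≫ hS0.fromSpec := (IsAffineOpen.SpecMap_appLE_fromSpec f hS0 hX₀ eU).symm
  have hμf : μ ≫ p ≫ f = (π ≫ fG) ≫ hS0.fromSpec := by rw [← Category.assoc, hμp, Category.assoc, hξf, Category.assoc]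
  have he : Function.Injective e := fun _ _ _ => Subsingleton.elim _ _
  have hn : ∀ i : Fin 1, 1 ≤ (fun _ => n) i := fun _ => hn1
  haveI : Smooth (π ≫ fG) := by
    rw [← Spec.map_comp, ← CommRingCat.ofHom_comp]
    exact HasRingHomProperty.Spec_iff.2 (smooth_kummer e (fun _ => n) he)
  haveI : Smooth (μ ≫ p ≫ f) := by rw [hμf]; infer_instance
  let U₀ := ξ ⁻¹ᵁ X.basicOpen t
  have hU₀' : U₀ = (PrimeSpectrum.basicOpen τ₀ : (Spec (CommRingCat.of G)).Opens) := by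
    refine Eq.trans ?_ (hX₀.fromSpec_preimage_basicOpen τ₀)
    show hX₀.fromSpec ⁻¹ᵁ X.basicOpen t = hX₀.fromSpec ⁻¹ᵁ X.basicOpen (X.presheaf.map _ t)
    rw [Scheme.basicOpen_res]
    ext z
    exact ⟨fun h => ⟨hX₀.range_fromSpec.le ⟨z, rfl⟩, h⟩, fun h => h.2⟩
  have hU₀ : (U₀ : Set (Spec (CommRingCat.of G))) =
      (PrimeSpectrum.basicOpen (∏ i, aOf (C := C) (G := G) e i) : Set (PrimeSpectrum G)) := by
    rw [hU₀', Fin.prod_univ_one]
    show _ = (PrimeSpectrum.basicOpen (a 0) : Set (PrimeSpectrum G))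
    rw [ha]
  haveI : Flat π := HasRingHomProperty.Spec_iff.2 (RingHom.flat_algebraMap_iff.2
    (haveI := RelKummer.free a (fun _ => n) hn; inferInstance))
  have hdense : ∀ z, IsFibMax (μ ≫ p ≫ f) z → μ z ∈ U' := fun z hz => by
    rw [hμf] at hz
    have h1 := mem_of_fibMax (C := C) (G := G) e (π z)
      (isFibMax_of_flat π fG ((isFibMax_comp_openImmersion _ hS0.fromSpec).1 hz))
    show (μ ≫ p) z ∈ X.basicOpen t
    rw [hμp]
    exact hU₀.ge h1
  refine ⟨hR ▸ isFibMax_mem_of_chart μ hdense, fun W hW => ?_⟩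
  -- the extension
  let c : (U₀ : Scheme.{u}) ⟶ (X.basicOpen t : Scheme.{u}) := ξ ∣_ X.basicOpen t
  let V₀ := (FEt.restrict c).obj V
  obtain ⟨Y, ⟨i⟩⟩ := exists_extend_chart (C := C) (G := G) e (fun _ => n) he hn (fun _ => hu) U₀ hU₀ V₀
    (fun Ω _ _ _ _ hU' y _ _ k _ => by
      refine tameAt_of_transitive _ _ hU' _ (pullAct (toFibre G Ω ∣_ U₀) (pullAct c ρ))
        (transitive_restrict _ (transitive_restrict c hρ)) y n (hcard ▸ dvd_refl _) ?_
      let φ : C →+* (Spec (CommRingCat.of (Ω ⊗[C] G))).residueField y :=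
        (((Spec (CommRingCat.of (Ω ⊗[C] G))).residue y).hom.comp
          ((Spec (CommRingCat.of (Ω ⊗[C] G))).presheaf.germ ⊤ y trivial).hom).comp
          ((Scheme.ΓSpecIso (CommRingCat.of (Ω ⊗[C] G))).inv.hom.comp
            ((Algebra.TensorProduct.includeRight : G →ₐ[C] Ω ⊗[C] G).toRingHom.comp (algebraMap C G)))
      have := (hu.map φ).ne_zero
      rwa [map_natCast] at this)
  let P' := pullback (tauMap t) (nuMap n)
  let a₁ := P'.homOfLE (inf_le_left : W ⊓ U' ≤ W)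
  let b₁ := P'.homOfLE (inf_le_right : W ⊓ U' ≤ U')
  let k : (W : Scheme.{u}) ⟶ Spec (CommRingCat.of K) := IsOpenImmersion.lift μ W.ι (by
    rw [Scheme.Opens.range_ι]
    intro z hz
    exact hR.ge (hW hz))
  have hk : k ≫ μ = W.ι := IsOpenImmersion.lift_fac _ _ _
  let k' : ((W ⊓ U' : P'.Opens) : Scheme.{u}) ⟶ (π ⁻¹ᵁ U₀ : Scheme.Opens _).toScheme :=
    IsOpenImmersion.lift (π ⁻¹ᵁ U₀).ι (a₁ ≫ k) (by
      rintro _ ⟨z, rfl⟩
      rw [Scheme.Opens.range_ι]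
      show ((a₁ ≫ k) ≫ π ≫ ξ) z ∈ X.basicOpen t
      rw [← hμp, Category.assoc, reassoc_of% hk, Scheme.homOfLE_ι_assoc]
      exact z.2.2)
  have hk' : k' ≫ (π ⁻¹ᵁ U₀).ι = a₁ ≫ k := IsOpenImmersion.lift_fac _ _ _
  have h3 : (k' ≫ π ∣_ U₀) ≫ c = b₁ ≫ p ∣_ X.basicOpen t := by
    rw [← cancel_mono (X.basicOpen t).ι]
    simp only [Category.assoc, c, morphismRestrict_ι]
    rw [morphismRestrict_ι_assoc, reassoc_of% hk', ← hμp, reassoc_of% hk, Scheme.homOfLE_ι_assoc,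
      Scheme.homOfLE_ι_assoc]
  exact ⟨⟨(FEt.restrict k).obj Y, restrictSquare a₁ k k' (π ⁻¹ᵁ U₀).ι hk'.symm Y ≪≫ (FEt.restrict k').mapIso i ≪≫
    (restrictComp k' (π ∣_ U₀) _ rfl V₀).symm ≪≫ (restrictComp (k' ≫ π ∣_ U₀) c _ h3.symm V).symm ≪≫
    restrictComp b₁ (p ∣_ X.basicOpen t) _ rfl V⟩⟩

/-- A principal cover of the complement of the divisor extends, uniquely, after adjoining a root of its order. -/
theorem exists_extend_root {S X Y : Scheme.{u}} (f : X ⟶ S) (h : Y ⟶ S) (i : Y ⟶ X) [IsClosedImmersion i] (w : i ≫ f = h)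
    (m : ℕ) [SmoothOfRelativeDimension (m + 1) f] [SmoothOfRelativeDimension m h]
    (t : Γ(X, ⊤)) (ht : i.ker = Scheme.IdealSheafData.ofIdealTop (Ideal.span {t}))
    (n : ℕ) (hn : IsUnit ((n : ℕ) : Γ(Y, ⊤))) {Gp : Type v} [Group Gp] [Finite Gp] (hcard : Nat.card Gp = n)
    (V : FEt.Cat (X.basicOpen t : Scheme.{u})) (ρ : Gp →* Aut V) (hρ : Transitive V ρ) :
    let p : pullback (tauMap t) (nuMap n) ⟶ X := pullback.fst (tauMap t) (nuMap n)
    let V' : FEt.Cat (p ⁻¹ᵁ X.basicOpen t : Scheme.{u}) := (FEt.restrict (p ∣_ X.basicOpen t)).obj V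
    (∃ W : FEt.Cat (pullback (tauMap t) (nuMap n)), Nonempty ((FEt.restrict (p ⁻¹ᵁ X.basicOpen t).ι).obj W ≅ V')) ∧
      ∀ W₁ W₂ : FEt.Cat (pullback (tauMap t) (nuMap n)),
        Nonempty ((FEt.restrict (p ⁻¹ᵁ X.basicOpen t).ι).obj W₁ ≅ V') →
        Nonempty ((FEt.restrict (p ⁻¹ᵁ X.basicOpen t).ι).obj W₂ ≅ V') → Nonempty (W₁ ≅ W₂) := by
  intro p V'
  let U' := p ⁻¹ᵁ X.basicOpen t
  let g := p ≫ f
  have hn1 : 1 ≤ n := hcard ▸ Nat.card_pos
  let P' := pullback (tauMap t) (nuMap n)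
  have hsupp : ∀ x : X, x ∉ X.basicOpen t → x ∈ Set.range i := by
    intro x hx
    have h1 : x ∈ i.ker.support := by
      rw [ht]
      show x ∈ ((Scheme.IdealSheafData.ofIdealTop (Ideal.span {t})).support : Set X)
      rw [Scheme.IdealSheafData.coe_support_ofIdealTop, Scheme.mem_zeroLocus_iff]
      intro s hs
      obtain ⟨c, rfl⟩ := Ideal.mem_span_singleton'.1 hs
      rw [Scheme.basicOpen_mul]
      exact fun h => hx h.2
    have h2 : x ∈ closure (Set.range i) := by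
      rw [← Scheme.Hom.support_ker]
      exact h1
    rwa [i.isClosedEmbedding.isClosed_range.closure_eq] at h2
  have hchart : ∀ z : P', p z ∉ X.basicOpen t → ∃ R : P'.Opens, z ∈ R ∧ IsRootChart g U' R ∧
      ∀ W ≤ R, Nonempty (ExtGlue.Ext U' V' W) := by
    intro z hz
    obtain ⟨y, hy⟩ := hsupp _ hz
    have hyn : f (i y) ∈ S.basicOpen ((n : ℕ) : Γ(S, ⊤)) := by
      show y ∈ i ⁻¹ᵁ f ⁻¹ᵁ S.basicOpen ((n : ℕ) : Γ(S, ⊤))
      rw [← Scheme.Hom.comp_preimage, w, Scheme.preimage_basicOpen_top, map_natCast,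
        (Scheme.basicOpen_of_isUnit _ hn)]
      trivial
    obtain ⟨S0, hS0, hS01, X₀, hX₀, hyX₀, eU, σ, _, jσ, ψ, hψ, hC, hj⟩ := exists_chart f h i w m t ht y hyn
    have hu : IsUnit ((n : ℕ) : Γ(S, S0)) := by
      have h1 := ((S.toRingedSpace.isUnit_res_basicOpen ((n : ℕ) : Γ(S, ⊤))).map
        (S.presheaf.map (homOfLE hS01).op).hom)
      simpa using h1
    obtain ⟨h1, h2⟩ := exists_root_chart f t n hn1 hcard V ρ hρ hS0 hX₀ eU hu jσ ψ hψ hC hj
    refine ⟨p ⁻¹ᵁ X₀, ?_, h1, h2⟩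
    show p z ∈ X₀
    rw [← hy]
    exact hyX₀
  choose R hzR hR hext using hchart
  let RR : P'.Opens := ⨆ (z : P') (hz : p z ∉ X.basicOpen t), R z hz
  have hcov : U' ⊔ RR = ⊤ := top_le_iff.1 fun z _ => by
    by_cases hz : p z ∈ X.basicOpen t
    · exact (le_sup_left : U' ≤ U' ⊔ RR) hz
    · exact (le_sup_right : RR ≤ U' ⊔ RR) (Opens.mem_iSup.2 ⟨z, Opens.mem_iSup.2 ⟨hz, hzR z hz⟩⟩)
  have hsmooth : Smooth (RR.ι ≫ g) := by
    let ι := {q : P' // p q ∉ X.basicOpen t}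
    refine IsZariskiLocalAtSource.of_iSup_eq_top (P := @Smooth) (fun q : ι => RR.ι ⁻¹ᵁ R q.1 q.2)
      (top_le_iff.1 fun z _ => ?_) fun q => ?_
    · obtain ⟨q, hq⟩ := Opens.mem_iSup.1 z.2
      obtain ⟨hq', hzq⟩ := Opens.mem_iSup.1 hq
      exact Opens.mem_iSup.2 ⟨⟨q, hq'⟩, hzq⟩
    · haveI := (hR q.1 q.2).1
      let l := IsOpenImmersion.lift (R q.1 q.2).ι ((RR.ι ⁻¹ᵁ R q.1 q.2).ι ≫ RR.ι) (by
        rintro _ ⟨z, rfl⟩
        rw [Scheme.Opens.range_ι]
        exact z.2)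
      have hl : l ≫ (R q.1 q.2).ι = (RR.ι ⁻¹ᵁ R q.1 q.2).ι ≫ RR.ι := IsOpenImmersion.lift_fac _ _ _
      haveI : IsOpenImmersion (l ≫ (R q.1 q.2).ι) := by rw [hl]; infer_instance
      haveI : IsOpenImmersion l := IsOpenImmersion.of_comp l (R q.1 q.2).ι
      rw [← reassoc_of% hl]
      infer_instance
  have hff : ∀ W ≤ RR, (FEt.restrict (P'.homOfLE (inf_le_left : W ⊓ U' ≤ W))).Full ∧
      (FEt.restrict (P'.homOfLE (inf_le_left : W ⊓ U' ≤ W))).Faithful := fun W hW => by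
    haveI : Smooth (W.ι ≫ g) := by
      rw [← P'.homOfLE_ι hW, Category.assoc]
      infer_instance
    refine restrict_ff (W.ι ≫ g) _ fun η hη => range_homOfLE_inf W U' η ?_
    obtain ⟨q, hq⟩ := Opens.mem_iSup.1 (hW η.2)
    obtain ⟨hq', hzq⟩ := Opens.mem_iSup.1 hq
    exact (hR q hq').2 _ hzq ((isFibMax_openImmersion W.ι g).1 hη)
  refine ⟨?_, fun W₁ W₂ ⟨e₁⟩ ⟨e₂⟩ => nonempty_iso U' RR hcov (hff RR le_rfl) (e₁ ≪≫ e₂.symm)⟩
  let B : Set P'.Opens := {W | W ≤ U' ∨ ∃ z hz, W ≤ R z hz}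
  refine exists_extension B (Opens.isBasis_iff_nbhd.2 fun {O} {z} hzO => ?_) (fun W hW => ?_) ?_ (Or.inl le_rfl)
  · by_cases hz : p z ∈ X.basicOpen t
    · refine ⟨O ⊓ U', ⟨Or.inl inf_le_right, ?_⟩, ⟨hzO, hz⟩, inf_le_left⟩
      let W := O ⊓ U'
      exact ⟨⟨(FEt.restrict (P'.homOfLE (inf_le_right : W ≤ U'))).obj V',
        (restrictComp (P'.homOfLE (inf_le_left : W ⊓ U' ≤ W)) (P'.homOfLE (inf_le_right : W ≤ U')) _
          (P'.homOfLE_homOfLE _ _).symm V').symm⟩⟩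
    · exact ⟨O ⊓ R z hz, ⟨Or.inr ⟨z, hz, inf_le_right⟩, hext z hz _ inf_le_right⟩, ⟨hzO, hzR z hz⟩, inf_le_left⟩
  · rcases hW with hW | ⟨z, hz, hW⟩
    · haveI : IsIso (P'.homOfLE (inf_le_left : W ⊓ U' ≤ W)) :=
        ⟨P'.homOfLE (le_inf le_rfl hW), by simp, by simp⟩
      exact restrict_ff_of_isIso _
    · exact hff W (hW.trans (le_iSup₂ (f := fun z hz => R z hz) z hz))
  · exact ⟨⟨V', Iso.refl _⟩⟩

end Groth.Agent.RelChart

end
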